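import Cfsg.Agent.Lib.Recog.Huppert.Ppd
import Cfsg.Agent.Lib.LocalEven.Zsigmondy

/-!
# Huppert: solvable transitive linear groups

* `semilinear_or_exceptional`: a solvable linear group transitive on non-zero vectors is semilinear,
  or the space has `9, 25, 49, 121, 529` or `81` elements
-/

set_option autoImplicit false
set_option linter.all false
set_option maxHeartbeats 400000

namespace CfsgLib.Recog.Huppert

open Subgroup Cfsg

theorem card_dvd_aut {W : Type*} [CommGroup W] [Finite W] (hexp : ∀ u : W, u ^ 2 = 1) {k : ℕ}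
    (hk : 2 ≤ k) (hcard : Nat.card W = 2 ^ (2 * k)) (H : Subgroup (MulAut W))
    (hsol : Group.IsSolvable H) (hr : (2 ^ k + 1).Prime) {x : H} (hx : orderOf x = 2 ^ k + 1) :
    Nat.card H ∣ (2 ^ (2 * k) - 1) * (2 * k) := by
  classical
  have := Fact.mk Nat.prime_two
  haveI : Finite (Additive W) := inferInstanceAs (Finite W)
  letI : Module (ZMod 2) (Additive W) := AddCommGroup.zmodModule fun u => by
    show (u.toMul ^ 2 : W) = 1
    exact hexp _
  haveI : Nontrivial (Additive W) := by
    have : 1 < Nat.card W := by rw [hcard]; exact Nat.one_lt_pow (by omega) (by norm_num)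
    have h := Finite.one_lt_card_iff_nontrivial.mp this
    exact inferInstanceAs (Nontrivial W)
  let ρ : H →* (Additive W ≃ₗ[ZMod 2] Additive W) :=
    { toFun := fun e => (MulEquiv.toAdditive (e : MulAut W)).toLinearEquiv
        (ZMod.map_smul (MulEquiv.toAdditive (e : MulAut W)).toAddMonoidHom)
      map_one' := rfl
      map_mul' := fun e f => rfl }
  have hρ : Function.Injective ρ := fun e f h =>
    Subtype.ext (MulEquiv.ext fun u => LinearEquiv.congr_fun h (Additive.ofMul u))
  have hfin : Module.finrank (ZMod 2) (Additive W) = 2 * k := by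
    have h := Module.natCard_eq_pow_finrank (K := ZMod 2) (V := Additive W)
    rw [Nat.card_zmod, show Nat.card (Additive W) = Nat.card W from rfl, hcard] at h
    exact (Nat.pow_right_injective le_rfl h).symm
  have h4 : 4 ≤ 2 ^ k := le_trans (by norm_num) (Nat.pow_le_pow_right (by norm_num : 1 ≤ 2) hk)
  have hd : 2 ^ k + 1 ∣ 2 ^ (2 * k) - 1 := by
    rw [mul_comm 2 k, pow_mul, show 1 = 1 ^ 2 from rfl, Nat.sq_sub_sq]
    exact dvd_mul_right _ _
  have hsmall : ∀ j, 0 < j → j ≤ k → ¬ 2 ^ k + 1 ∣ 2 ^ j - 1 := by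
    intro j hj hjk h
    have h1 : 2 ^ j ≤ 2 ^ k := Nat.pow_le_pow_right (by norm_num) hjk
    have h2 : 1 < 2 ^ j := Nat.one_lt_pow hj.ne' (by norm_num)
    have := Nat.le_of_dvd (by omega) h
    omega
  have hppd : ∀ j, 0 < j → j < 2 * k → ¬ 2 ^ k + 1 ∣ 2 ^ j - 1 := by
    intro j hj hjk h
    rcases le_or_gt j k with hle | hgt
    · exact hsmall j hj hle h
    · refine hsmall (2 * k - j) (by omega) (by omega) ?_
      rw [dvd_pow_sub_one_iff (by norm_num : 0 < 2)] at h hd ⊢
      have e : ((2 : ℕ) : ZMod (2 ^ k + 1)) ^ (2 * k) =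
          ((2 : ℕ) : ZMod (2 ^ k + 1)) ^ (2 * k - j) * ((2 : ℕ) : ZMod (2 ^ k + 1)) ^ j := by
        rw [← pow_add]; congr 1; omega
      rw [hd, h, mul_one] at e
      exact e.symm
  rcases dichotomy (ρ := ρ) hρ hfin (by omega) hr hd hppd hx with
    ⟨A, hAn, hA, hAf, hAfull⟩ | ⟨_, _, _, _, h2, _⟩
  · have h := card_dvd_of_full ρ hρ hA hAf hAn hAfull
    rwa [hfin] at h
  · exact absurd rfl h2

variable {p : ℕ} [hp : Fact p.Prime] {V : Type*} [AddCommGroup V] [Module (ZMod p) V]
  [Finite V] [Nontrivial V] {G : Type*} [Group G] [Finite G] {ρ : G →* (V ≃ₗ[ZMod p] V)}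

theorem pow_sub_one_dvd_card (htr : ∀ v w : V, v ≠ 0 → w ≠ 0 → ∃ g : G, ρ g v = w) :
    p ^ Module.finrank (ZMod p) V - 1 ∣ Nat.card G := by
  classical
  obtain ⟨v, hv⟩ := exists_ne (0 : V)
  letI : MulAction G V := MulAction.compHom V ρ
  have hO : MulAction.orbit G v = ({0} : Set V)ᶜ := by
    ext w
    refine ⟨?_, fun hw => ?_⟩
    · rintro ⟨g, rfl⟩ h
      exact hv ((LinearEquiv.map_eq_zero_iff (ρ g)).mp h)
    · obtain ⟨g, hg⟩ := htr v w hv hw
      exact ⟨g, hg⟩
  rw [← Nat.card_congr (MulAction.orbitProdStabilizerEquivGroup G v), Nat.card_prod, hO]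
  refine Dvd.intro _ (congrArg (· * _) ?_)
  rw [Nat.card_coe_set_eq, Set.ncard_compl, Set.ncard_singleton,
    Module.natCard_eq_pow_finrank (K := ZMod p), Nat.card_zmod]

theorem irred_top (htr : ∀ v w : V, v ≠ 0 → w ≠ 0 → ∃ g : G, ρ g v = w) :
    Irred ρ (⊤ : Subgroup G) := by
  intro W hW
  by_cases hb : W = ⊥
  · exact Or.inl hb
  obtain ⟨v, hv, hv0⟩ := Submodule.exists_mem_ne_zero_of_ne_bot hb
  refine Or.inr (eq_top_iff.mpr fun w _ => ?_)
  by_cases hw : w = 0
  · rw [hw]; exact W.zero_mem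
  obtain ⟨g, rfl⟩ := htr v w hv0 hw
  exact hW g (mem_top g) v hv

/-- Dimension at least three. -/
theorem large [Group.IsSolvable G] (hρ : Function.Injective ρ)
    (htr : ∀ v w : V, v ≠ 0 → w ≠ 0 → ∃ g : G, ρ g v = w) (h3 : 3 ≤ Module.finrank (ZMod p) V)
    (h26 : ¬ (p = 2 ∧ Module.finrank (ZMod p) V = 6)) :
    (∃ A : Subgroup G, A.Normal ∧ A ≤ centralizer (A : Set G) ∧ IsFld ρ A ∧ Full ρ A) ∨
      Nat.card V = 81 := by
  classical
  obtain ⟨r, hr, hd, hk⟩ := CfsgLib.Zsigmondy.exists_primitive_prime_divisor (a := p)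
    (n := Module.finrank (ZMod p) V) hp.out.one_lt (by omega) h26 (fun h => by omega)
  have := Fact.mk hr
  obtain ⟨x, hx⟩ := exists_prime_orderOf_dvd_card' (G := G) r (hd.trans (pow_sub_one_dvd_card htr))
  rcases dichotomy hρ rfl h3 hr hd hk hx with h | ⟨k, N, hN, hk2, hp2, hn, hrk, hcard, hcomm, hexp,
    hax, hker⟩
  · exact Or.inl h
  right
  letI : CommGroup (Qt N) := { (inferInstance : Group (Qt N)) with mul_comm := hcomm }
  let xb : (act N).range := ⟨act N x, x, rfl⟩
  have hxb : orderOf xb = 2 ^ k + 1 := by rw [← Subgroup.orderOf_coe]; exact hax.trans hrk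
  have hH : Nat.card (act N).range ∣ (2 ^ (2 * k) - 1) * (2 * k) :=
    card_dvd_aut hexp hk2 hcard _ (Group.isSolvable_of_surjective (act N).rangeRestrict_surjective)
      (hrk ▸ hr) hxb
  have hG : p ^ 2 ^ k - 1 ∣ (p - 1) * 2 ^ (2 * k) * ((2 ^ (2 * k) - 1) * (2 * k)) := by
    rw [← hn]
    refine (pow_sub_one_dvd_card htr).trans ?_
    rw [← (act N).ker.card_mul_index, Subgroup.index_ker]
    exact mul_dvd_mul hker hH
  have hp3 : 3 ≤ p := by have := hp.out.two_le; omega
  have hV : Nat.card V = p ^ 2 ^ k := by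
    rw [Module.natCard_eq_pow_finrank (K := ZMod p), Nat.card_zmod, hn]
  rcases (show k = 2 ∨ k = 3 ∨ 4 ≤ k by omega) with rfl | rfl | hk4
  · -- dimension four
    have h1 : p ^ 4 - 1 = (p - 1) * (p ^ 3 + p ^ 2 + p + 1) := by
      zify [hp.out.one_le, Nat.one_le_pow 4 p hp.out.pos]
      ring
    norm_num at hG hV
    rw [h1, mul_assoc] at hG
    have h2 : p ^ 3 + p ^ 2 + p + 1 ∣ 960 := by
      have := Nat.dvd_of_mul_dvd_mul_left (by omega : 0 < p - 1) hG
      norm_num at this
      exact this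
    have h3 : p < 10 := by
      by_contra h
      have := Nat.le_of_dvd (by norm_num) h2
      have : 10 ^ 3 ≤ p ^ 3 := Nat.pow_le_pow_left (by omega) 3
      omega
    interval_cases p <;> first | (rw [hV]; rfl) | (revert h2; norm_num; done) | (exact absurd hp.out (by norm_num))
  · exact absurd (hrk ▸ hr) (by norm_num)
  · exfalso
    set n := 2 ^ k
    have hn1 : 1 ≤ n := Nat.one_le_two_pow
    have hpos : 0 < (p - 1) * 2 ^ (2 * k) * ((2 ^ (2 * k) - 1) * (2 * k)) := by
      have : 1 < 2 ^ (2 * k) := Nat.one_lt_pow (by omega) (by norm_num)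
      exact Nat.mul_pos (Nat.mul_pos (by omega) (by omega)) (Nat.mul_pos (by omega) (by omega))
    have h1 : (p - 1) * p ^ (n - 1) ≤ p ^ n - 1 := by
      have : p ^ n = p * p ^ (n - 1) := by rw [← pow_succ', Nat.sub_add_cancel hn1]
      rw [Nat.sub_mul, one_mul, this]
      have : 1 ≤ p ^ (n - 1) := Nat.one_le_pow _ _ hp.out.pos
      omega
    have h2 : p ^ (n - 1) ≤ 2 ^ (5 * k) := by
      have h := h1.trans (Nat.le_of_dvd hpos hG)
      rw [mul_assoc] at h
      refine (Nat.le_of_mul_le_mul_left h (by omega)).trans ?_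
      calc 2 ^ (2 * k) * ((2 ^ (2 * k) - 1) * (2 * k)) ≤ 2 ^ (2 * k) * (2 ^ (2 * k) * 2 ^ k) := by
            have : 2 * k ≤ 2 ^ k := Nat.mul_le_pow (by norm_num) k
            gcongr
            omega
        _ = 2 ^ (5 * k) := by rw [← pow_add, ← pow_add]; ring_nf
    have h3' : 3 ^ (n - 1) ≤ 2 ^ (5 * k) := (Nat.pow_le_pow_left hp3 _).trans h2
    rcases (show k = 4 ∨ 5 ≤ k by omega) with rfl | hk5
    · simp only [n] at h3'; norm_num at h3'
    · have h5 : 5 * k + 1 ≤ n := by
        have key : ∀ j, 5 * (j + 5) + 1 ≤ 2 ^ (j + 5) := by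
          intro j
          induction j with
          | zero => norm_num
          | succ j ih => rw [show j + 1 + 5 = j + 5 + 1 by ring, pow_succ]; omega
        have := key (k - 5)
        rwa [Nat.sub_add_cancel hk5] at this
      have h6 : 2 ^ (n - 1) < 3 ^ (n - 1) := Nat.pow_lt_pow_left (by norm_num) (by omega)
      have h7 : 2 ^ (5 * k) ≤ 2 ^ (n - 1) := Nat.pow_le_pow_right (by norm_num) (by omega)
      omega

omit hp [Module (ZMod p) V] [Finite V] [Nontrivial V] in
theorem exists_nonabelian_pCore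
    (h : ¬ fittingSubgroup G ≤ centralizer (fittingSubgroup G : Set G)) :
    ∃ t : Nat.Primes, ¬ pCore (t : ℕ) G ≤ centralizer (pCore (t : ℕ) G : Set G) := by
  by_contra! hall
  apply h
  have hFS : fittingSubgroup G = ⨆ t : Nat.Primes, pCore (t : ℕ) G :=
    CfsgLib.Core.fittingSubgroup_eq_iSup_pCore
  have key : ∀ t u : Nat.Primes, pCore (t : ℕ) G ≤ centralizer (pCore (u : ℕ) G : Set G) := by
    intro t u
    by_cases htu : t = u
    · subst htu; exact hall t
    · have := Fact.mk t.2
      have := Fact.mk u.2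
      intro a ha
      refine mem_centralizer_iff.mpr fun b hb => ?_
      exact Subgroup.commute_of_normal_of_disjoint _ _ inferInstance inferInstance
        (IsPGroup.disjoint_of_ne _ _ (fun e => htu (Subtype.ext e).symm) _ _
          (CfsgLib.Core.isPGroup_pCore (G := G) (u : ℕ))
          (CfsgLib.Core.isPGroup_pCore (G := G) (t : ℕ))) b a hb ha
  rw [hFS]
  refine iSup_le fun t => ?_
  rw [le_centralizer_iff]
  exact iSup_le fun u => key u t

/-- Dimension two, and `64` points. -/
theorem small [Group.IsSolvable G] (hρ : Function.Injective ρ)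
    (htr : ∀ v w : V, v ≠ 0 → w ≠ 0 → ∃ g : G, ρ g v = w)
    (hcase : Module.finrank (ZMod p) V = 2 ∨ (p = 2 ∧ Module.finrank (ZMod p) V = 6)) :
    (∃ A : Subgroup G, A.Normal ∧ A ≤ centralizer (A : Set G) ∧ IsFld ρ A ∧ Full ρ A) ∨
      (Module.finrank (ZMod p) V = 2 ∧ p ≠ 2 ∧ p + 1 ∣ 24) := by
  classical
  by_cases hfull : ∃ A : Subgroup G, A.Normal ∧ A ≤ centralizer (A : Set G) ∧ IsFld ρ A ∧ Full ρ A
  · exact Or.inl hfull
  right
  push Not at hfull
  set n := Module.finrank (ZMod p) V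
  have hGd := pow_sub_one_dvd_card htr
  change p ^ n - 1 ∣ _ at hGd
  have hfld : ∀ A : Subgroup G, A.Normal → A ≤ centralizer (A : Set G) → IsFld ρ A :=
    fun A hAn hA => isFld_of_transitive ρ hA hAn htr
  -- the degrees
  have hdeg : ∀ A : Subgroup G, A.Normal → A ≤ centralizer (A : Set G) →
      Module.finrank (ZMod p) (adj ρ A) = 1 ∨
      (p = 2 ∧ n = 6 ∧ (Module.finrank (ZMod p) (adj ρ A) = 2 ∨
        Module.finrank (ZMod p) (adj ρ A) = 3)) := by
    intro A hAn hA
    have hf := hfld A hAn hA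
    letI := (isField_adj ρ hA hf).toField
    have hdvd : Module.finrank (ZMod p) (adj ρ A) ∣ n :=
      Dvd.intro _ (Module.finrank_mul_finrank (ZMod p) (adj ρ A) V)
    have hne : Module.finrank (ZMod p) (adj ρ A) ≠ n := fun e =>
      hfull A hAn hA hf (full_of_finrank ρ e)
    rcases hcase with h | ⟨h2, h⟩
    · rw [show n = 2 from h] at hdvd hne
      exact Or.inl (((Nat.dvd_prime Nat.prime_two).mp hdvd).resolve_right hne)
    · rw [show n = 6 from h] at hdvd hne
      have := Nat.le_of_dvd (by norm_num) hdvd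
      interval_cases (Module.finrank (ZMod p) (adj ρ A)) <;> first | exact Or.inl rfl | exact Or.inr ⟨h2, h, Or.inl rfl⟩ | exact Or.inr ⟨h2, h, Or.inr rfl⟩ | omega
  have hp2 := hp.out.two_le
  by_cases hFab : fittingSubgroup G ≤ centralizer (fittingSubgroup G : Set G)
  · -- abelian Fitting subgroup
    exfalso
    set A := fittingSubgroup G
    have hAn : A.Normal := inferInstance
    have hcA : centralizer (A : Set G) = A :=
      le_antisymm CfsgLib.Components.centralizer_fitting_le_of_isSolvable hFab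
    have hG2 : Nat.card G ∣
        (p ^ Module.finrank (ZMod p) (adj ρ A) - 1) * Module.finrank (ZMod p) (adj ρ A) := by
      rw [← A.card_mul_index]
      refine mul_dvd_mul (card_dvd_units ρ hρ hFab (hfld A hAn hFab) A fun g hg => T_mem ρ hg) ?_
      have h := index_centralizer_dvd ρ hρ hFab (hfld A hAn hFab) hAn
      rwa [hcA] at h
    have h := hGd.trans hG2
    rcases hdeg A hAn hFab with h1 | ⟨rfl, hn6, h1 | h1⟩
    · rw [h1, pow_one, mul_one] at h
      have h2 := Nat.le_of_dvd (by omega) h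
      have h3 : p ^ 2 ≤ p ^ n := Nat.pow_le_pow_right hp.out.pos (by omega)
      have h4 : 2 * p ≤ p ^ 2 := by rw [sq]; exact Nat.mul_le_mul_right p hp2
      omega
    · rw [hn6, h1] at h; norm_num at h
    · rw [hn6, h1] at h; norm_num at h
  obtain ⟨⟨s, hs⟩, hS⟩ := exists_nonabelian_pCore hFab
  change ¬ pCore s G ≤ centralizer (pCore s G : Set G) at hS
  have := Fact.mk hs
  have hsp : s ≠ p := fun e => hS (by
    rw [e, pCore_eq_bot hρ (irred_top htr)]; exact bot_le)
  obtain ⟨N, hN, hNS, hNab, hNmin⟩ :=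
    exists_minimal_normal (fun M => M ≤ centralizer (M : Set G)) inferInstance hS
  have hNs : IsPGroup s N := (CfsgLib.Core.isPGroup_pCore (G := G) s).to_le hNS
  have hsd : ∀ M : Subgroup G, M.Normal → M ≤ centralizer (M : Set G) → IsPGroup s M → M ≠ ⊥ →
      Module.finrank (ZMod p) (adj ρ M) ≠ 1 ∨ p ≠ 2 := by
    intro M hM hMc hMs hne
    by_contra hcon
    push Not at hcon
    have h := card_dvd_units ρ hρ hMc (hfld M hM hMc) M fun g hg => T_mem ρ hg
    rw [hcon.1, hcon.2] at h
    exact hne (Subgroup.card_eq_one.mp (Nat.dvd_one.mp (by simpa using h)))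
  have hcop : ∀ M : Subgroup G, M.Normal → M ≤ centralizer (M : Set G) → IsPGroup s M → M ≠ ⊥ →
      s.Coprime (Module.finrank (ZMod p) (adj ρ M)) := by
    intro M hM hMc hMs hne
    rcases hdeg M hM hMc with h1 | ⟨rfl, -, h1⟩
    · rw [h1]; exact Nat.coprime_one_right s
    · have h := card_dvd_units ρ hρ hMc (hfld M hM hMc) M fun g hg => T_mem ρ hg
      obtain ⟨i, hi⟩ := IsPGroup.iff_card.mp hMs
      have hi0 : i ≠ 0 := fun e => hne (Subgroup.card_eq_one.mp (by rw [hi, e, pow_zero]))
      have hsd := (dvd_pow_self s hi0).trans (hi ▸ h)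
      rcases h1 with h1 | h1 <;> rw [h1] at hsd ⊢ <;> norm_num at hsd
      · rw [(Nat.prime_dvd_prime_iff_eq hs Nat.prime_three).mp hsd]; norm_num
      · rw [(Nat.prime_dvd_prime_iff_eq hs (by norm_num : Nat.Prime 7)).mp hsd]; norm_num
  have C : Core ρ s N := by
    refine ⟨hs, hN, hNs, hNab, fun M hM hlt => ?_, hfld _ (normal_Zc N) (Zc_comm N)⟩
    by_cases hMb : M = ⊥
    · rw [hMb]; exact bot_le
    have hMc := hNmin M hM hlt
    have hco := hcop M hM hMc (hNs.to_le hlt.le) hMb
    rw [le_centralizer_iff]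
    intro a ha
    refine mem_centralizer_of_coprime ρ hρ hMc (hfld M hM hMc) hM ?_
    obtain ⟨e, he⟩ := IsPGroup.iff_orderOf.mp hNs ⟨a, ha⟩
    rw [Subgroup.orderOf_mk] at he
    rw [he]
    exact hco.pow_left e
  obtain ⟨k, m, hk1, hcard, hdm, hkm, htriv⟩ := C.exists_card hρ
  change n = _ * m at hdm
  have hs2le : s ≤ s ^ k := Nat.le_self_pow (by omega) s
  have hs2' := hs.two_le
  have hZs : IsPGroup s (Zc N) := hNs.to_le inf_le_left
  have hZne : Zc N ≠ ⊥ := by
    intro hb
    have hNne : Nontrivial N := (Subgroup.nontrivial_iff_ne_bot N).mpr fun e => hNab (by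
      rw [e]; exact bot_le)
    obtain ⟨z, hz⟩ := (Subgroup.nontrivial_iff_exists_ne_one _).mp hNs.center_nontrivial
    refine hz.2 (Subtype.ext ?_)
    have h1 : (z : G) ∈ Zc N :=
      mem_Zc.mpr ⟨z.2, fun a ha => congrArg Subtype.val (mem_center_iff.mp hz.1 ⟨a, ha⟩)⟩
    rw [hb, Subgroup.mem_bot] at h1
    exact h1
  set d := Module.finrank (ZMod p) (adj ρ (Zc N)) with hddef
  rcases hdeg _ (normal_Zc N) (Zc_comm N) with h1 | ⟨hp2', hn6, h1⟩
  · -- scalars
    change d = 1 at h1
    rw [h1, one_mul] at hdm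
    rcases hcase with h | ⟨h2, h⟩
    swap
    · exact ((hsd _ (normal_Zc N) (Zc_comm N) hZs hZne).elim (fun e => e h1) (fun e => e h2)).elim
    change n = 2 at h
    obtain rfl : m = 2 := by omega
    have hsk : s ^ k = 2 := by omega
    obtain rfl : s = 2 := by omega
    have hk : k = 1 := Nat.pow_right_injective le_rfl (hsk.trans (pow_one 2).symm)
    subst hk
    refine ⟨h, hsp.symm, ?_⟩
    have htop : centralizer (Zc N : Set G) = ⊤ := index_eq_one.mp (Nat.dvd_one.mp (by
      have h := index_centralizer_dvd ρ hρ (Zc_comm N) C.fld (normal_Zc N)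
      change _ ∣ d at h
      rwa [h1] at h))
    have hker := htriv hsk
    change _ ∣ (p ^ d - 1) * _ at hker
    rw [h1, pow_one, hcard, triv, htop, inf_top_eq] at hker
    have hrange : Nat.card (act N).range ∣ 6 := by
      let g : MulAut (Qt N) →* Equiv.Perm {u : Qt N // u ≠ 1} :=
        MonoidHom.mk' (fun e => e.toEquiv.subtypeEquiv fun u => (MulEquiv.map_ne_one_iff e).symm)
          fun e f => Equiv.ext fun u => Subtype.ext rfl
      have hg : Function.Injective g := fun e f h => MulEquiv.ext fun u => by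
        by_cases hu : u = 1
        · rw [hu, map_one, map_one]
        · exact congrArg Subtype.val (Equiv.congr_fun h ⟨u, hu⟩)
      have h3 : Nat.card {u : Qt N // u ≠ 1} = 3 := by
        haveI := Fintype.ofFinite (Qt N)
        rw [Nat.card_eq_fintype_card, Fintype.card_subtype_compl, Fintype.card_subtype_eq,
          ← Nat.card_eq_fintype_card, hcard]
        norm_num
      have h4 := Subgroup.card_dvd_of_injective (g.comp (act N).range.subtype)
        (hg.comp Subtype.val_injective)
      rwa [Nat.card_perm, h3] at h4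
    have hG2 : Nat.card G ∣ (p - 1) * 4 * 6 := by
      rw [← (act N).ker.card_mul_index, Subgroup.index_ker]
      exact mul_dvd_mul (by simpa using hker) hrange
    have h5 := hGd.trans hG2
    rw [h, show p ^ 2 - 1 = (p + 1) * (p - 1) by rw [← Nat.sq_sub_sq, one_pow],
      mul_comm (p + 1), mul_assoc] at h5
    exact Nat.dvd_of_mul_dvd_mul_left (by omega) h5
  · -- sixty-four points
    exfalso
    subst hp2'
    have hs3 : 3 ≤ s := by omega
    rcases h1 with h1 | h1 <;> change d = _ at h1 <;> rw [h1, hn6] at hdm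
    swap
    · omega
    obtain rfl : m = 3 := by omega
    have hsk : s ^ k = 3 := by omega
    obtain rfl : s = 3 := by omega
    have hk : k = 1 := Nat.pow_right_injective (by norm_num) (hsk.trans (pow_one 3).symm)
    subst hk
    have hker := htriv hsk
    change _ ∣ (2 ^ d - 1) * _ at hker
    rw [h1, hcard] at hker
    norm_num at hker
    have h7 := Fact.mk (by norm_num : Nat.Prime 7)
    obtain ⟨y, hy⟩ := exists_prime_orderOf_dvd_card' (G := G) 7 (dvd_trans (by rw [hn6]; norm_num) hGd)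
    have hyZ : y ∈ centralizer (Zc N : Set G) := by
      refine mem_centralizer_of_coprime ρ hρ (Zc_comm N) C.fld (normal_Zc N) ?_
      change (orderOf y).Coprime d
      rw [hy, h1]; norm_num
    have hyk : act N y = 1 := by
      let F : Subgroup (Qt N) := (act N y).toMonoidHom.eqLocus (MonoidHom.id _)
      let toP : MulAut (Qt N) →* Equiv.Perm (Qt N) :=
        MonoidHom.mk' (fun e => e.toEquiv) fun _ _ => rfl
      have hm := modEq_perm (toP (act N y)) (r := 7) (by
        rw [← map_pow, ← map_pow, ← hy, pow_orderOf_eq_one, map_one, map_one])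
      have hc : Nat.card {u : Qt N // toP (act N y) u = u} = Nat.card F := rfl
      rw [hc, hcard] at hm
      have hd9 : Nat.card F ∣ 3 ^ 2 := hcard ▸ F.card_subgroup_dvd_card
      obtain ⟨i, hi, hFi⟩ := (Nat.dvd_prime_pow Nat.prime_three).mp hd9
      rw [hFi] at hm
      have hi2 : i = 2 := by
        interval_cases i <;> first | rfl | (exact absurd hm (by decide))
      have htop : F = ⊤ := Subgroup.eq_top_of_card_eq F (by rw [hFi, hi2, hcard])
      exact MulEquiv.ext fun u => (htop ▸ mem_top u : u ∈ F)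
    have hyt : y ∈ triv N := ⟨MonoidHom.mem_ker.mpr hyk, hyZ⟩
    have h27 : 7 ∣ Nat.card (triv N) := by
      rw [← hy, ← Subgroup.orderOf_mk y hyt]; exact orderOf_dvd_natCard _
    exact absurd (h27.trans hker) (by norm_num)

/-- Solvable transitive linear groups. -/
theorem semilinear_or_exceptional [Group.IsSolvable G] (hρ : Function.Injective ρ)
    (htr : ∀ v w : V, v ≠ 0 → w ≠ 0 → ∃ g : G, ρ g v = w) :
    (∃ (F : Type) (_ : Field F) (_ : Fintype F) (e : V ≃+ F),
        ∀ g : G, ∃ (a : F) (σ : F ≃+* F), ∀ v : V, e (ρ g v) = a * σ (e v)) ∨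
    Nat.card V ∈ ({9, 25, 49, 121, 529, 81} : Set ℕ) := by
  classical
  suffices h : (∃ A : Subgroup G, A.Normal ∧ A ≤ centralizer (A : Set G) ∧ IsFld ρ A ∧ Full ρ A) ∨
      Nat.card V ∈ ({9, 25, 49, 121, 529, 81} : Set ℕ) by
    exact h.imp_left fun ⟨A, hAn, hA, hf, hfull⟩ => semilinear_of_full ρ hA hf hAn hfull
  set n := Module.finrank (ZMod p) V with hn
  have hn0 : 0 < n := Module.finrank_pos
  rcases (show n = 1 ∨ n = 2 ∨ 3 ≤ n by omega) with h1 | h2 | h3
  · -- dimension one
    left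
    have hA : (⊥ : Subgroup G) ≤ centralizer ((⊥ : Subgroup G) : Set G) := bot_le
    have hi : Irred ρ (⊥ : Subgroup G) := fun W _ => by
      rcases Nat.eq_zero_or_pos (Module.finrank (ZMod p) W) with h | h
      · exact Or.inl (Submodule.finrank_eq_zero.mp h)
      · refine Or.inr (Submodule.eq_top_of_finrank_eq ?_)
        have := Submodule.finrank_le W
        omega
    exact ⟨⊥, inferInstance, hA, isFld_of_irred ρ hA hi, full_of_irred ρ hA hi⟩
  · refine (small hρ htr (Or.inl h2)).imp_right fun ⟨_, hp2, hdvd⟩ => ?_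
    have hV : Nat.card V = p ^ 2 := by
      rw [Module.natCard_eq_pow_finrank (K := ZMod p), Nat.card_zmod, ← hn, h2]
    have key : ∀ q : ℕ, q.Prime → q ≠ 2 → q + 1 ∣ 24 →
        q ^ 2 ∈ ({9, 25, 49, 121, 529, 81} : Set ℕ) := by
      intro q hq hne hdq
      have h24 : q + 1 ≤ 24 := Nat.le_of_dvd (by norm_num) hdq
      have hq' := hq.two_le
      have h25 : q < 24 := by omega
      interval_cases q <;>
        first | (simp; done) | omega | (exact absurd hq (by norm_num))
    rw [hV]
    exact key p hp.out hp2 hdvd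
  · by_cases h26 : p = 2 ∧ n = 6
    · exact (small hρ htr (Or.inr h26)).imp_right fun ⟨h, _⟩ => by omega
    · exact (large hρ htr h3 h26).imp_right fun h => by rw [h]; simp

end CfsgLib.Recog.Huppert
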