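import Cfsg.Agent.Lib.Recog.Huppert.CoreDim
import Cfsg.Agent.Lib.Core.Cores
import Cfsg.Agent.Lib.Components.FStar

/-!
# Solvable linear groups containing an element of primitive prime divisor order

* `irred_of_ppd`: such an element is irreducible
* `dichotomy`: there is an irreducible abelian normal subgroup, or the dimension is `2 ^ k`
-/

set_option autoImplicit false
set_option linter.all false
set_option maxHeartbeats 400000

namespace CfsgLib.Recog.Huppert

open Subgroup Cfsg

theorem modEq_of_eq {r a b : ℕ} (h : a = b) : a ≡ b [MOD r] := congrArg (· % r) h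

theorem modEq_perm {α : Type*} [Finite α] (σ : Equiv.Perm α) {r : ℕ} [Fact r.Prime]
    (h : σ ^ r = 1) : Nat.card α ≡ Nat.card {a : α // σ a = a} [MOD r] := by
  classical
  have := Fintype.ofFinite α
  have h1 := Equiv.Perm.card_compl_support_modEq (σ := σ) (p := r) (n := 1) (by rwa [pow_one])
  rw [Nat.card_eq_fintype_card, Nat.card_eq_fintype_card, Fintype.card_subtype]
  refine (h1.symm.trans (modEq_of_eq ?_))
  congr 1
  ext a
  simp

theorem dvd_pow_sub_one_iff {r p : ℕ} (hp : 0 < p) (j : ℕ) :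
    r ∣ p ^ j - 1 ↔ (p : ZMod r) ^ j = 1 := by
  rw [← ZMod.natCast_eq_zero_iff, Nat.cast_sub (Nat.one_le_pow _ _ hp), sub_eq_zero]
  simp

theorem ppd_ne {p n r : ℕ} (hp : 0 < p) (hn : n ≠ 0) (hr : r.Prime) (hd : r ∣ p ^ n - 1) :
    r ≠ p := by
  rintro rfl
  have h1 : 1 ≤ r ^ n := Nat.one_le_pow _ _ hr.pos
  exact hr.not_dvd_one ((Nat.dvd_sub_iff_right h1 (dvd_pow_self r hn)).mp hd)

theorem ppd_lt {p n r : ℕ} (hp : p.Prime) (hn : n ≠ 0) (hr : r.Prime) (hd : r ∣ p ^ n - 1)
    (hk : ∀ j, 0 < j → j < n → ¬ r ∣ p ^ j - 1) : n < r := by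
  have := Fact.mk hr
  have ho : orderOf (p : ZMod r) = n := by
    refine (orderOf_eq_iff (Nat.pos_of_ne_zero hn)).mpr
      ⟨(dvd_pow_sub_one_iff hp.pos n).mp hd, fun j hj hj0 h => ?_⟩
    exact hk j hj0 hj ((dvd_pow_sub_one_iff hp.pos j).mpr h)
  have hne : (p : ZMod r) ≠ 0 := fun h =>
    ppd_ne hp.pos hn hr hd ((Nat.prime_dvd_prime_iff_eq hr hp).mp
      ((ZMod.natCast_eq_zero_iff _ _).mp h))
  have h1 : n ∣ r - 1 := ho ▸ ZMod.orderOf_dvd_card_sub_one hne
  have h2 := hr.two_le
  have := Nat.le_of_dvd (by omega) h1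
  omega

variable {p : ℕ} [hp : Fact p.Prime] {V : Type*} [AddCommGroup V] [Module (ZMod p) V]
  [Finite V] [Nontrivial V] {G : Type*} [Group G] {ρ : G →* (V ≃ₗ[ZMod p] V)}

/-- An element whose order is a primitive prime divisor is irreducible. -/
theorem irred_of_ppd (hρ : Function.Injective ρ) {r : ℕ} (hr : r.Prime)
    (hd : r ∣ p ^ Module.finrank (ZMod p) V - 1)
    (hk : ∀ j, 0 < j → j < Module.finrank (ZMod p) V → ¬ r ∣ p ^ j - 1)
    {x : G} (hx : orderOf x = r) : Irred ρ (zpowers x) := by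
  classical
  have := Fact.mk hr
  set n := Module.finrank (ZMod p) V with hn
  have hn0 : n ≠ 0 := Module.finrank_pos.ne'
  have hrp := ppd_ne hp.out.pos hn0 hr hd
  have hcardW : ∀ W : Submodule (ZMod p) V, Nat.card W = p ^ Module.finrank (ZMod p) W := fun W => by
    rw [Module.natCard_eq_pow_finrank (K := ZMod p), Nat.card_zmod]
  let F : Submodule (ZMod p) V := LinearMap.ker (T ρ x - 1)
  have hF : ∀ v, v ∈ F ↔ ρ x v = v := fun v => by
    rw [LinearMap.mem_ker, LinearMap.sub_apply, Module.End.one_apply, sub_eq_zero, T_apply]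
  -- the fixed points in an invariant subspace
  have hmod : ∀ W : Submodule (ZMod p) V, (∀ v ∈ W, ρ x v ∈ W) →
      p ^ Module.finrank (ZMod p) W ≡
        p ^ Module.finrank (ZMod p) (W ⊓ F : Submodule (ZMod p) V) [MOD r] := by
    intro W hW
    let f : W → W := fun w => ⟨ρ x w, hW w w.2⟩
    have hf : Function.Bijective f := Finite.injective_iff_bijective.mp fun a b e =>
      Subtype.ext ((ρ x).injective (congrArg Subtype.val e))
    let σ : Equiv.Perm W := Equiv.ofBijective f hf
    have hpow : ∀ (i : ℕ) (w : W), ((σ ^ i) w : V) = ρ (x ^ i) w := by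
      intro i
      induction i with
      | zero => intro w; simp
      | succ i ih =>
        intro w
        rw [pow_succ', Equiv.Perm.mul_apply]
        show ρ x (((σ ^ i) w : W) : V) = _
        rw [ih, ← LinearEquiv.mul_apply, ← map_mul, pow_succ']
    have hσ : σ ^ r = 1 := Equiv.ext fun w => Subtype.ext (by
      rw [hpow, ← hx, pow_orderOf_eq_one, map_one]; rfl)
    rw [← hcardW, ← hcardW]
    refine (modEq_perm σ hσ).trans (modEq_of_eq (Nat.card_congr
      { toFun := fun a => ⟨a.1.1, a.1.2, (hF _).mpr (congrArg Subtype.val a.2)⟩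
        invFun := fun a => ⟨⟨a.1, a.2.1⟩, Subtype.ext ((hF _).mp a.2.2)⟩
        left_inv := fun a => rfl
        right_inv := fun a => rfl }))
  -- no fixed points
  have hFb : F = ⊥ := by
    have h1 := hmod ⊤ fun v _ => Submodule.mem_top
    rw [top_inf_eq, finrank_top] at h1
    set f := Module.finrank (ZMod p) F
    have hfn : f ≤ n := Submodule.finrank_le F
    rcases hfn.lt_or_eq with hlt | heq
    · rcases Nat.eq_zero_or_pos f with h0 | hf0
      · exact Submodule.finrank_eq_zero.mp h0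
      · exfalso
        refine hk (n - f) (by omega) (by omega) ?_
        have h2 := (Nat.modEq_iff_dvd' (Nat.pow_le_pow_right hp.out.pos hfn)).mp h1.symm
        rw [show p ^ n - p ^ f = p ^ f * (p ^ (n - f) - 1) by
          rw [Nat.mul_sub, mul_one, ← pow_add, Nat.add_sub_cancel' hfn]] at h2
        exact (((Nat.coprime_primes hr hp.out).mpr hrp).pow_right f).dvd_of_dvd_mul_left h2
    · exfalso
      have htop : F = ⊤ := Submodule.eq_top_of_finrank_eq heq
      have : x = 1 := hρ (LinearEquiv.ext fun v => by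
        rw [(hF v).mp (htop ▸ Submodule.mem_top), map_one]; rfl)
      rw [this, orderOf_one] at hx
      exact hr.ne_one hx.symm
  intro W hW
  have h1 := hmod W fun v hv => hW x (mem_zpowers x) v hv
  rw [hFb, inf_bot_eq, finrank_bot, pow_zero] at h1
  have h2 : r ∣ p ^ Module.finrank (ZMod p) W - 1 :=
    (Nat.modEq_iff_dvd' (Nat.one_le_pow _ _ hp.out.pos)).mp h1.symm
  rcases Nat.eq_zero_or_pos (Module.finrank (ZMod p) W) with h0 | h0
  · exact Or.inl (Submodule.finrank_eq_zero.mp h0)
  · rcases (Submodule.finrank_le W).lt_or_eq with hlt | heq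
    · exact absurd h2 (hk _ h0 hlt)
    · exact Or.inr (Submodule.eq_top_of_finrank_eq heq)

theorem zpowers_comm (x : G) : zpowers x ≤ centralizer (zpowers x : Set G) := fun a ha =>
  mem_centralizer_iff.mpr fun b hb => by
    obtain ⟨i, rfl⟩ := mem_zpowers_iff.mp ha
    obtain ⟨j, rfl⟩ := mem_zpowers_iff.mp hb
    exact (zpow_mul_comm x j i)

theorem centralizer_elt_comm (hρ : Function.Injective ρ) {x : G} (hx : Irred ρ (zpowers x))
    {a b : G} (ha : x * a = a * x) (hb : x * b = b * x) : a * b = b * a := by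
  have hA := zpowers_comm x
  have h : ∀ {a : G}, x * a = a * x → a ∈ centralizer (zpowers x : Set G) := fun {a} ha => by
    refine mem_centralizer_iff.mpr fun c hc => ?_
    obtain ⟨i, rfl⟩ := mem_zpowers_iff.mp hc
    exact ((show Commute x a from ha).zpow_left i).eq
  exact centralizer_comm_of_full ρ hρ hA (isFld_of_irred ρ hA hx) (full_of_irred ρ hA hx) (h ha) (h hb)

variable [Finite G]

theorem pCore_eq_bot (hρ : Function.Injective ρ) (hirr : Irred ρ (⊤ : Subgroup G)) :
    pCore p G = ⊥ := by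
  classical
  set P := pCore p G
  have hP : IsPGroup p P := CfsgLib.Core.isPGroup_pCore (G := G) p
  let F : Submodule (ZMod p) V := ⨅ y : P, LinearMap.ker (T ρ (y : G) - 1)
  have hF : ∀ v, v ∈ F ↔ ∀ y : P, ρ (y : G) v = v := fun v => by
    simp only [F, Submodule.mem_iInf, LinearMap.mem_ker, LinearMap.sub_apply, Module.End.one_apply,
      sub_eq_zero, T_apply]
  letI : MulAction P V := MulAction.compHom V (ρ.comp P.subtype)
  obtain ⟨w, hw, hw0⟩ := hP.exists_fixed_point_of_prime_dvd_card_of_fixed_point V (by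
    rw [Module.natCard_eq_pow_finrank (K := ZMod p), Nat.card_zmod]
    exact dvd_pow_self p Module.finrank_pos.ne') (a := (0 : V)) fun y => map_zero (ρ (y : G))
  rcases hirr F (fun g _ v hv => (hF _).mpr fun y => by
      have hy : g⁻¹ * (y : G) * g ∈ P := by
        simpa using (CfsgLib.Core.normal_pCore p G).conj_mem _ y.2 g⁻¹
      have h := (hF v).mp hv ⟨_, hy⟩
      conv_rhs => rw [← h]
      rw [← LinearEquiv.mul_apply, ← LinearEquiv.mul_apply, ← map_mul, ← map_mul]
      congr 2
      group) with h | h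
  · exfalso
    have hwF : w ∈ F := (hF w).mpr fun y => hw y
    rw [h, Submodule.mem_bot] at hwF
    exact hw0 hwF.symm
  · rw [eq_bot_iff]
    intro y hy
    rw [Subgroup.mem_bot]
    refine hρ (LinearEquiv.ext fun v => ?_)
    rw [map_one]
    exact (hF v).mp (h ▸ Submodule.mem_top) ⟨y, hy⟩

omit [Module (ZMod p) V] [Finite V] [Nontrivial V] in
/-- An element fixed by `x` that is a commutator with `x` is trivial, coprimely. -/
theorem commute_of_coprime {x a : G} {e : ℕ} (hc : (orderOf x).Coprime e)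
    (he : (x * a * x⁻¹ * a⁻¹) ^ e = 1) (hz : Commute x (x * a * x⁻¹ * a⁻¹)) : x * a = a * x := by
  set z := x * a * x⁻¹ * a⁻¹ with hzdef
  have hpow : ∀ i : ℕ, x ^ i * a * (x ^ i)⁻¹ = z ^ i * a := by
    intro i
    induction i with
    | zero => simp
    | succ i ih =>
      calc x ^ (i + 1) * a * (x ^ (i + 1))⁻¹ = x * (x ^ i * a * (x ^ i)⁻¹) * x⁻¹ := by
            rw [pow_succ']; group
        _ = z ^ i * (x * a * x⁻¹) := by rw [ih, ← mul_assoc, (hz.pow_right i).eq]; group
        _ = z ^ (i + 1) * a := by rw [pow_succ, hzdef]; group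
  have h1 := hpow (orderOf x)
  rw [pow_orderOf_eq_one, one_mul, inv_one, mul_one, right_eq_mul] at h1
  have hz1 : z = 1 := orderOf_eq_one_iff.mp
    (Nat.eq_one_of_dvd_coprimes hc (orderOf_dvd_of_pow_eq_one h1) (orderOf_dvd_of_pow_eq_one he))
  rwa [hzdef, mul_inv_eq_one, mul_inv_eq_iff_eq_mul] at hz1

omit [Module (ZMod p) V] [Finite V] [Nontrivial V] in
/-- A subgroup minimal among normal subgroups of a given one failing a property. -/
theorem exists_minimal_normal (P : Subgroup G → Prop) {S : Subgroup G} (hS : S.Normal) (h : ¬ P S) :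
    ∃ N : Subgroup G, N.Normal ∧ N ≤ S ∧ ¬ P N ∧ ∀ M : Subgroup G, M.Normal → M < N → P M := by
  have : Finite (Subgroup G) := Finite.of_injective (fun U => (U : Set G)) SetLike.coe_injective
  obtain ⟨N, hN⟩ := (Set.toFinite {U : Subgroup G | U.Normal ∧ U ≤ S ∧ ¬ P U}).exists_minimal
    ⟨S, hS, le_rfl, h⟩
  refine ⟨N, hN.prop.1, hN.prop.2.1, hN.prop.2.2, fun M hM hlt => ?_⟩
  by_contra hPM
  exact hlt.not_ge (hN.le_of_le ⟨hM, hlt.le.trans hN.prop.2.1, hPM⟩ hlt.le)

/-- The structure of a solvable group with an irreducible element of primitive order. -/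
theorem dichotomy [Group.IsSolvable G] (hρ : Function.Injective ρ) {n r : ℕ}
    (hn : Module.finrank (ZMod p) V = n) (h3 : 3 ≤ n) (hr : r.Prime) (hd : r ∣ p ^ n - 1)
    (hk : ∀ j, 0 < j → j < n → ¬ r ∣ p ^ j - 1) {x : G} (hx : orderOf x = r) :
    (∃ A : Subgroup G, A.Normal ∧ A ≤ centralizer (A : Set G) ∧ IsFld ρ A ∧ Full ρ A) ∨
    ∃ (k : ℕ) (N : Subgroup G) (_ : N.Normal), 2 ≤ k ∧ p ≠ 2 ∧ n = 2 ^ k ∧ r = 2 ^ k + 1 ∧
      Nat.card (Qt N) = 2 ^ (2 * k) ∧ (∀ u w : Qt N, u * w = w * u) ∧ (∀ u : Qt N, u ^ 2 = 1) ∧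
      orderOf (act N x) = r ∧ Nat.card (act N).ker ∣ (p - 1) * 2 ^ (2 * k) := by
  classical
  have := Fact.mk hr
  have hxi : Irred ρ (zpowers x) := irred_of_ppd hρ hr (hn.symm ▸ hd) (hn.symm ▸ hk) hx
  have hnr : n < r := ppd_lt hp.out (by omega) hr hd hk
  have hxr : x ^ r = 1 := by rw [← hx, pow_orderOf_eq_one]
  have hfld : ∀ A : Subgroup G, A.Normal → A ≤ centralizer (A : Set G) → IsFld ρ A := fun A hAn hA =>
    isFld_of_irred_elt ρ hA hAn hr hxr hxi (by omega)
  have hcent : ∀ A : Subgroup G, A.Normal → A ≤ centralizer (A : Set G) →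
      x ∈ centralizer (A : Set G) := fun A hAn hA => by
    refine mem_centralizer_of_coprime ρ hρ hA (hfld A hAn hA) hAn ?_
    rw [hx]
    refine hr.coprime_iff_not_dvd.mpr fun hdvd => ?_
    have h1 : 0 < Module.finrank (ZMod p) (adj ρ A) := by
      rcases Nat.eq_zero_or_pos (Module.finrank (ZMod p) (adj ρ A)) with h0 | h0
      · exfalso
        have h2 := card_adj ρ (A := A)
        rw [h0, pow_zero, Nat.card_eq_one_iff_unique] at h2
        exact one_ne_zero_adj ρ (h2.1.elim (1 : adj ρ A) 0)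
      · exact h0
    have h2 : Module.finrank (ZMod p) (adj ρ A) ≤ n := by
      obtain ⟨v, hv⟩ := exists_ne (0 : V)
      rw [← hn]
      exact LinearMap.finrank_le_finrank_of_injective (ev_injective ρ (hfld A hAn hA) hv)
    have := Nat.le_of_dvd h1 hdvd
    omega
  have hcore : pCore p G = ⊥ := pCore_eq_bot hρ (hxi.mono ρ le_top)
  have hFS : fittingSubgroup G = ⨆ t : Nat.Primes, pCore (t : ℕ) G :=
    CfsgLib.Core.fittingSubgroup_eq_iSup_pCore
  by_cases hcF : ∀ t : Nat.Primes, pCore (t : ℕ) G ≤ centralizer ({x} : Set G)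
  · -- `x` centralises the Fitting subgroup
    left
    set A := centralizer (fittingSubgroup G : Set G)
    have hAF : A ≤ fittingSubgroup G := CfsgLib.Components.centralizer_fitting_le_of_isSolvable
    have hA : A ≤ centralizer (A : Set G) := fun a ha => centralizer_le hAF ha
    have hAn : A.Normal := inferInstance
    have hxA : x ∈ A := by
      refine mem_centralizer_iff.mpr fun f hf => ?_
      have hle : fittingSubgroup G ≤ centralizer ({x} : Set G) := by rw [hFS]; exact iSup_le hcF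
      exact mem_centralizer_singleton_iff.mp (hle hf)
    have hAi : Irred ρ A := hxi.mono ρ (zpowers_le.mpr hxA)
    exact ⟨A, hAn, hA, isFld_of_irred ρ hA hAi, full_of_irred ρ hA hAi⟩
  push Not at hcF
  obtain ⟨⟨s, hs⟩, hsx⟩ := hcF
  change ¬ pCore s G ≤ _ at hsx
  have := Fact.mk hs
  have hSs : IsPGroup s (pCore s G) := CfsgLib.Core.isPGroup_pCore (G := G) s
  have hsp : s ≠ p := fun e => hsx (by rw [e, hcore]; exact bot_le)
  have hsr : s ≠ r := by
    rintro rfl
    refine hsx fun a ha => mem_centralizer_singleton_iff.mpr ?_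
    have hR : IsPGroup s ↥(pCore s G ⊔ zpowers x) :=
      hSs.to_sup_of_normal_left (IsPGroup.of_card (n := 1) (by rw [Nat.card_zpowers, hx, pow_one]))
    have hnt : Nontrivial ↥(pCore s G ⊔ zpowers x) :=
      nontrivial_of_ne ⟨x, mem_sup_right (mem_zpowers x)⟩ 1 fun h => hs.ne_one (by
        rw [← hx, show x = 1 from congrArg Subtype.val h, orderOf_one])
    have hcn := hR.center_nontrivial
    obtain ⟨z, hz⟩ := exists_prime_orderOf_dvd_card' (G := center ↥(pCore s G ⊔ zpowers x)) s (by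
      obtain ⟨i, hi⟩ := IsPGroup.iff_card.mp (hR.to_subgroup (center _))
      rw [hi]
      refine dvd_pow_self s fun e => ?_
      have h1 := Finite.one_lt_card (α := center ↥(pCore s G ⊔ zpowers x))
      rw [hi, e, pow_zero] at h1
      omega)
    have hz' : orderOf ((z : ↥(pCore s G ⊔ zpowers x)) : G) = s := by
      rw [Subgroup.orderOf_coe, Subgroup.orderOf_coe, hz]
    have hzi : Irred ρ (zpowers ((z : ↥(pCore s G ⊔ zpowers x)) : G)) :=
      irred_of_ppd hρ hr (hn.symm ▸ hd) (hn.symm ▸ hk) hz'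
    have hzc : ∀ b ∈ pCore s G ⊔ zpowers x,
        ((z : ↥(pCore s G ⊔ zpowers x)) : G) * b = b * z := fun b hb =>
      congrArg Subtype.val (mem_center_iff.mp z.2 ⟨b, hb⟩).symm
    exact centralizer_elt_comm hρ hzi (hzc a (mem_sup_left ha)) (hzc x (mem_sup_right (mem_zpowers x)))
  obtain ⟨N, hNn, hNS, hNx, hNmin⟩ :=
    exists_minimal_normal (fun M => M ≤ centralizer ({x} : Set G)) inferInstance hsx
  have hNs : IsPGroup s N := hSs.to_le hNS
  have hcop : (orderOf x).Coprime s := by rw [hx]; exact (Nat.coprime_primes hr hs).mpr hsr.symm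
  have hcx : ∀ {a : G}, a ∈ centralizer ({x} : Set G) → x * a = a * x := fun {a} ha =>
    (mem_centralizer_singleton_iff.mp ha).symm
  have C : Core ρ s N := by
    refine ⟨hs, hNn, hNs, fun hab => hNx fun a ha => mem_centralizer_singleton_iff.mpr ?_, ?_,
      hfld _ (normal_Zc N) (Zc_comm N)⟩
    · exact mem_centralizer_iff.mp (hcent N hNn hab) a ha
    · intro M hM hlt
      by_contra hnc
      have hlt' : N ⊓ centralizer (M : Set G) < N := by
        refine lt_of_le_of_ne inf_le_left fun e => hnc fun m hm => ?_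
        refine mem_centralizer_iff.mpr fun a ha => ?_
        exact (mem_centralizer_iff.mp ((e.ge.trans inf_le_right) ha) m hm).symm
      have hC1 := hNmin _ inferInstance hlt'
      refine hNx fun a ha => mem_centralizer_singleton_iff.mpr (Eq.symm ?_)
      have hcN : x * a * x⁻¹ * a⁻¹ ∈ N := mul_mem (hNn.conj_mem a ha x) (inv_mem ha)
      have hcM : x * a * x⁻¹ * a⁻¹ ∈ centralizer (M : Set G) := by
        refine mem_centralizer_iff.mpr fun m hm => ?_
        have h1 : a⁻¹ * m * a ∈ M := by simpa using hM.conj_mem m hm a⁻¹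
        have h2 := hcx (hNmin M hM hlt h1)
        have h3 := hcx (hNmin M hM hlt hm)
        calc m * (x * a * x⁻¹ * a⁻¹) = (x * m * x⁻¹) * (x * a * x⁻¹ * a⁻¹) := by
              rw [h3]; group
          _ = x * a * ((a⁻¹ * m * a) * x⁻¹) * a⁻¹ := by group
          _ = x * a * (x⁻¹ * (a⁻¹ * m * a)) * a⁻¹ := by
              rw [show (a⁻¹ * m * a) * x⁻¹ = x⁻¹ * (a⁻¹ * m * a) from
                ((show Commute x (a⁻¹ * m * a) from h2).inv_left).eq.symm]
          _ = _ := by group
      obtain ⟨e, he⟩ := IsPGroup.iff_orderOf.mp hNs ⟨_, hcN⟩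
      rw [Subgroup.orderOf_mk] at he
      exact commute_of_coprime (hcop.pow_right e) (orderOf_dvd_iff_pow_eq_one.mp he.dvd)
        (hcx (hC1 ⟨hcN, hcM⟩))
  set d := Module.finrank (ZMod p) (adj ρ (Zc N))
  by_cases hdn : d = n
  · exact Or.inl ⟨Zc N, normal_Zc N, Zc_comm N, C.fld, full_of_finrank ρ (by rw [hn]; exact hdn)⟩
  right
  obtain ⟨k, m, hk1, hcard, hdm, hkm, htriv⟩ := C.exists_card hρ
  rw [hn] at hdm
  change n = d * m at hdm
  have hxZ : x ∈ centralizer (Zc N : Set G) := hcent _ (normal_Zc N) (Zc_comm N)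
  have hfix : ∀ u : Qt N, act N x u = u → u = 1 := fun u hu =>
    C.fixed_eq_one hρ hxZ hcop (fun a _ b _ ha hb => centralizer_elt_comm hρ hxi ha hb) hu
  have hax : orderOf (act N x) = r := by
    refine orderOf_eq_prime (by rw [← map_pow, hxr, map_one]) fun h => ?_
    have : Nontrivial (Qt N) := C.qt_nontrivial
    obtain ⟨u, hu⟩ := exists_ne (1 : Qt N)
    exact hu (hfix u (by rw [h]; rfl))
  have hrd : r ∣ s ^ (2 * k) - 1 := by
    let toP : MulAut (Qt N) →* Equiv.Perm (Qt N) :=
      MonoidHom.mk' (fun e => e.toEquiv) fun _ _ => rfl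
    have h1 := modEq_perm (toP (act N x)) (r := r) (by rw [← map_pow, ← hax, pow_orderOf_eq_one, map_one])
    have h2 : Nat.card {a : Qt N // toP (act N x) a = a} = 1 := by
      rw [Nat.card_eq_one_iff_unique]
      exact ⟨⟨fun a b => Subtype.ext ((hfix a.1 a.2).trans (hfix b.1 b.2).symm)⟩,
        ⟨⟨1, map_one (act N x)⟩⟩⟩
    rw [h2, hcard] at h1
    exact (Nat.modEq_iff_dvd' (Nat.one_le_pow _ _ hs.pos)).mp h1.symm
  have hd0 : d ≠ 0 := fun h => by rw [h, zero_mul] at hdm; omega
  have hmn : m ≤ n := by rw [hdm]; exact Nat.le_mul_of_pos_left m (Nat.pos_of_ne_zero hd0)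
  have h2k : 1 < s ^ k := Nat.one_lt_pow (by omega) hs.one_lt
  rw [show s ^ (2 * k) - 1 = (s ^ k + 1) * (s ^ k - 1) by
    rw [← Nat.sq_sub_sq, one_pow, ← pow_mul, mul_comm k 2], hr.dvd_mul] at hrd
  have hr1 : r ≤ s ^ k + 1 := by
    rcases hrd with h | h
    · exact Nat.le_of_dvd (by omega) h
    · have := Nat.le_of_dvd (by omega) h; omega
  have hd1 : d = 1 := by
    by_contra h1
    have : 2 * m ≤ n := by rw [hdm]; exact Nat.mul_le_mul_right m (by omega)
    omega
  obtain rfl : m = n := by rw [hdm, hd1, one_mul]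
  have hsk : s ^ k = m := by omega
  have hrm : r = s ^ k + 1 := by omega
  have hs2 : s = 2 := by
    by_contra hne
    have h1 : Odd (s ^ k) := (hs.odd_of_ne_two hne).pow
    have h2 : Odd r := hr.odd_of_ne_two (by omega)
    rw [hrm, Nat.odd_add_one] at h2
    exact h2 h1
  subst hs2
  have hk2 : 2 ≤ k := by
    by_contra hlt
    obtain rfl : k = 1 := by omega
    omega
  refine ⟨k, N, hNn, hk2, hsp.symm, hsk.symm, hrm, hcard, C.qt_comm, C.qt_exp, hax, ?_⟩
  have htop : centralizer (Zc N : Set G) = ⊤ := index_eq_one.mp (Nat.dvd_one.mp (by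
    have h := index_centralizer_dvd ρ hρ (Zc_comm N) C.fld (normal_Zc N)
    change _ ∣ d at h
    rwa [hd1] at h))
  have h := htriv hsk
  change _ ∣ (p ^ d - 1) * _ at h
  rw [hd1, pow_one, hcard, triv, htop, inf_top_eq] at h
  exact h

end CfsgLib.Recog.Huppert
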