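import Mathlib

/-!
# Non-degenerate alternating pairings on finite abelian groups

* `card_hom_le`: there are at most `|W|` characters
* `exists_sq`: the order is a square
* `fixed_eq_one`: an automorphism preserving the pairing, with isotropic fixed points and order
  prime to the exponent, has no non-trivial fixed points
-/

set_option autoImplicit false
set_option linter.all false

namespace CfsgLib.Recog.Huppert

open Subgroup

variable {W : Type*} [CommGroup W] [Finite W] {L : Type*} [Field L]

theorem finite_hom_and_card_le (M : Type*) [MulOneClass M] [Finite M] :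
    Finite (M →* L) ∧ Nat.card (M →* L) ≤ Nat.card M := by
  classical
  have : Fintype M := Fintype.ofFinite M
  have hli := linearIndependent_monoidHom M L
  have : Finite (M →* L) := hli.finite
  have : Fintype (M →* L) := Fintype.ofFinite _
  refine ⟨inferInstance, ?_⟩
  have h := hli.fintype_card_le_finrank
  rw [Module.finrank_pi] at h
  rwa [Nat.card_eq_fintype_card, Nat.card_eq_fintype_card]

theorem coe_comp_injective (M : Type*) [MulOneClass M] :
    Function.Injective fun f : M →* Lˣ => (Units.coeHom L).comp f := fun f g e =>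
  MonoidHom.ext fun m => Units.ext (DFunLike.congr_fun e m)

instance finite_hom_units (M : Type*) [MulOneClass M] [Finite M] : Finite (M →* Lˣ) :=
  have := (finite_hom_and_card_le (L := L) M).1
  Finite.of_injective _ (coe_comp_injective M)

theorem card_hom_le (M : Type*) [MulOneClass M] [Finite M] :
    Nat.card (M →* Lˣ) ≤ Nat.card M :=
  have := (finite_hom_and_card_le (L := L) M).1
  (Nat.card_le_card_of_injective _ (coe_comp_injective M)).trans (finite_hom_and_card_le M).2

/-- The order of a group with a non-degenerate alternating pairing is a square. -/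
theorem exists_sq (β : W →* W →* Lˣ) (hinj : Function.Injective β) (halt : ∀ w, β w w = 1) :
    ∃ j : ℕ, Nat.card W = j ^ 2 := by
  classical
  have hskew : ∀ a b, β a b * β b a = 1 := fun a b => by
    have h := halt (a * b)
    simp only [map_mul, MonoidHom.mul_apply] at h
    rw [halt, halt, one_mul, mul_one] at h
    rw [mul_comm]
    exact h
  have : Finite (Subgroup W) := Finite.of_injective (fun U => (U : Set W)) SetLike.coe_injective
  let S := {U : Subgroup W | ∀ a ∈ U, ∀ b ∈ U, β a b = 1}
  obtain ⟨U, hU⟩ := (Set.toFinite S).exists_maximal ⟨⊥, by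
    intro a ha b hb; rw [Subgroup.mem_bot.mp ha, map_one, MonoidHom.one_apply]⟩
  have hperp : ∀ w, (∀ u ∈ U, β w u = 1) → w ∈ U := by
    intro w hw
    have hw' : ∀ u ∈ U, β u w = 1 := fun u hu => by
      have h := hskew u w
      rwa [hw u hu, mul_one] at h
    have hmem : U ⊔ zpowers w ∈ S := by
      have hzp : ∀ (f : W →* Lˣ) (i : ℤ) (x : W), (f ^ i) x = f x ^ i := fun f i x =>
        map_zpow (MonoidHom.eval x) f i
      intro a ha b hb
      obtain ⟨u, hu, z, hz, rfl⟩ := Subgroup.mem_sup.mp ha
      obtain ⟨u', hu', z', hz', rfl⟩ := Subgroup.mem_sup.mp hb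
      obtain ⟨i, rfl⟩ := Subgroup.mem_zpowers_iff.mp hz
      obtain ⟨j, rfl⟩ := Subgroup.mem_zpowers_iff.mp hz'
      simp only [map_mul, MonoidHom.mul_apply, map_zpow, hzp]
      rw [hU.prop u hu u' hu', hw' u hu, hw u' hu', halt]
      simp
    exact hU.le_of_ge hmem le_sup_left (mem_sup_right (mem_zpowers w))
  -- the quotient embeds in the characters of `U`
  let f : W →* (U →* Lˣ) :=
    { toFun := fun w => (β w).comp U.subtype
      map_one' := by ext; simp
      map_mul' := fun a b => by ext; simp }
  have hker : f.ker = U := by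
    ext w
    refine ⟨fun h => hperp w fun u hu => DFunLike.congr_fun h (⟨u, hu⟩ : U), fun h => ?_⟩
    exact MonoidHom.ext fun u => hU.prop w h u u.2
  have h1 : Nat.card (W ⧸ U) ≤ Nat.card U := by
    rw [← Subgroup.index_eq_card, ← hker, Subgroup.index_ker, hker]
    exact (Subgroup.card_le_card_group _).trans (card_hom_le (L := L) U)
  -- and `U` embeds in the characters of the quotient
  let g : U →* (W ⧸ U →* Lˣ) :=
    { toFun := fun u => QuotientGroup.lift U (β u) fun v hv => hU.prop u u.2 v hv
      map_one' := by
        refine MonoidHom.ext fun q => ?_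
        obtain ⟨a, rfl⟩ := QuotientGroup.mk_surjective q
        simp
      map_mul' := fun u v => by
        refine MonoidHom.ext fun q => ?_
        obtain ⟨a, rfl⟩ := QuotientGroup.mk_surjective q
        show β ((u : W) * v) a = β u a * β v a
        rw [map_mul, MonoidHom.mul_apply] }
  have hg : Function.Injective g := fun u v e => Subtype.ext (hinj (MonoidHom.ext fun a => by
    exact DFunLike.congr_fun e (a : W ⧸ U)))
  have h2 : Nat.card U ≤ Nat.card (W ⧸ U) :=
    (Nat.card_le_card_of_injective g hg).trans (card_hom_le (L := L) _)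
  exact ⟨Nat.card U, by
    rw [Subgroup.card_eq_card_quotient_mul_card_subgroup U, le_antisymm h1 h2, sq]⟩

/-- An automorphism preserving a pairing, with isotropic fixed points, fixes only `1`. -/
theorem fixed_eq_one (β : W →* W →* Lˣ) (hinj : Function.Injective β) (σ : MulAut W) {r s : ℕ}
    (hσr : σ ^ r = 1) (hrs : r.Coprime s) (hexp : ∀ w : W, w ^ s = 1)
    (hinv : ∀ a b, β (σ a) (σ b) = β a b)
    (hiso : ∀ a b, σ a = a → σ b = b → β a b = 1) {c : W} (hc : σ c = c) : c = 1 := by
  refine hinj (MonoidHom.ext fun a => ?_)
  rw [map_one, MonoidHom.one_apply]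
  have hχ : ∀ b, β c (σ b) = β c b := fun b => by
    conv_lhs => rw [← hc]
    exact hinv c b
  have hpow : ∀ i, β c ((σ ^ i) a) = β c a := by
    intro i
    induction i with
    | zero => rfl
    | succ i ih => rw [pow_succ', MulAut.mul_apply, hχ, ih]
  set P := ∏ i ∈ Finset.range r, (σ ^ i) a with hP
  have hPfix : σ P = P := by
    have h1 : σ P * a = P * (σ ^ r) a := by
      rw [hP, map_prod, ← Finset.prod_range_succ (fun i => (σ ^ i) a) r,
        Finset.prod_range_succ' (fun i => (σ ^ i) a) r]
      simp only [pow_succ', MulAut.mul_apply, pow_zero, MulAut.one_apply]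
    rw [hσr, MulAut.one_apply] at h1
    exact mul_right_cancel h1
  have h1 : (β c a) ^ r = 1 := by
    rw [← hiso c P hc hPfix, hP, map_prod]
    simp [hpow]
  have h2 : (β c a) ^ s = 1 := by rw [← map_pow, hexp, map_one]
  exact orderOf_eq_one_iff.mp (Nat.eq_one_of_dvd_coprimes hrs (orderOf_dvd_of_pow_eq_one h1)
    (orderOf_dvd_of_pow_eq_one h2))

end CfsgLib.Recog.Huppert
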