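import Cfsg.Agent.Lib.Recog.Huppert.Galois
import Cfsg.Agent.Lib.Recog.Huppert.Pairing

/-!
# A non-abelian normal `s`-subgroup of class two in a linear group

`Core ρ s N`: `N` is a non-abelian normal `s`-subgroup, every smaller normal subgroup is central in
it, and the centre generates a field `K`. Then `N / Z(N)` is elementary abelian of order
`s ^ (2 k)`, its representatives are linearly independent over `K`, so `s ^ k ≤ dim_K V`.
-/

set_option autoImplicit false
set_option linter.all false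
set_option maxHeartbeats 400000

namespace CfsgLib.Recog.Huppert

open Subgroup
open scoped commutatorElement

variable {p : ℕ} [hp : Fact p.Prime] {V : Type*} [AddCommGroup V] [Module (ZMod p) V]
  {G : Type*} [Group G]

/-- The centre of a subgroup. -/
def Zc (N : Subgroup G) : Subgroup G := N ⊓ centralizer (N : Set G)

theorem mem_Zc {N : Subgroup G} {g : G} : g ∈ Zc N ↔ g ∈ N ∧ ∀ a ∈ N, a * g = g * a := by
  rw [Zc, mem_inf, mem_centralizer_iff]; rfl

theorem Zc_comm (N : Subgroup G) : Zc N ≤ centralizer (Zc N : Set G) := fun z hz =>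
  mem_centralizer_iff.mpr fun w hw => (mem_Zc.mp hz).2 w (mem_Zc.mp hw).1

instance normal_Zc_subgroupOf (N : Subgroup G) : ((Zc N).subgroupOf N).Normal := by
  refine ⟨fun z hz g => ?_⟩
  rw [mem_subgroupOf] at hz ⊢
  have h := (mem_Zc.mp hz).2 g g.2
  have e : ((g * z * g⁻¹ : N) : G) = z := by
    rw [Subgroup.coe_mul, Subgroup.coe_mul, h, Subgroup.coe_inv, mul_inv_cancel_right]
  rwa [e]

instance normal_Zc (N : Subgroup G) [N.Normal] : (Zc N).Normal := by
  unfold Zc; infer_instance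

/-- `N / Z(N)`. -/
abbrev Qt (N : Subgroup G) := N ⧸ (Zc N).subgroupOf N

/-- The projection. -/
abbrev pr (N : Subgroup G) : N →* Qt N := QuotientGroup.mk' _

theorem pr_eq_one {N : Subgroup G} (a : N) : pr N a = 1 ↔ (a : G) ∈ Zc N := by
  rw [QuotientGroup.mk'_apply, QuotientGroup.eq_one_iff, mem_subgroupOf]

/-- The action on `N / Z(N)`. -/
noncomputable def act (N : Subgroup G) [hN : N.Normal] : G →* MulAut (Qt N) :=
  MonoidHom.mk' (fun g => QuotientGroup.congr _ _ (MulAut.conjNormal g) (by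
    ext a
    constructor
    · rintro ⟨b, hb, rfl⟩
      rw [SetLike.mem_coe, mem_subgroupOf] at hb
      rw [mem_subgroupOf]
      exact (normal_Zc N).conj_mem _ hb g
    · intro h
      rw [mem_subgroupOf] at h
      refine ⟨MulAut.conjNormal g⁻¹ a, ?_, ?_⟩
      · rw [SetLike.mem_coe, mem_subgroupOf, MulAut.conjNormal_apply]
        exact (normal_Zc N).conj_mem _ h g⁻¹
      · refine Subtype.ext ?_
        show g * (g⁻¹ * (a : G) * g⁻¹⁻¹) * g⁻¹ = a
        group)) fun g h => by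
    refine MulEquiv.ext fun q => ?_
    obtain ⟨a, rfl⟩ := QuotientGroup.mk'_surjective _ q
    show pr N (MulAut.conjNormal (g * h) a) = pr N (MulAut.conjNormal g (MulAut.conjNormal h a))
    rw [map_mul]; rfl

theorem act_pr (N : Subgroup G) [N.Normal] (g : G) (a : N) :
    act N g (pr N a) = pr N (MulAut.conjNormal g a) := rfl

/-- Elements centralising `Z(N)` and `N / Z(N)`. -/
noncomputable def triv (N : Subgroup G) [N.Normal] : Subgroup G :=
  (act N).ker ⊓ centralizer (Zc N : Set G)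

theorem cm_mem_of_ker {N : Subgroup G} [hN : N.Normal] {g : G} (hg : g ∈ (act N).ker) {b : G}
    (hb : b ∈ N) : g * b * g⁻¹ * b⁻¹ ∈ Zc N := by
  have h := DFunLike.congr_fun (MonoidHom.mem_ker.mp hg) (pr N ⟨b, hb⟩)
  rw [act_pr, MulAut.one_apply, ← div_eq_one, div_eq_mul_inv, ← map_inv, ← map_mul, pr_eq_one] at h
  exact h

theorem triv_spec {N : Subgroup G} [N.Normal] {g : G} (hg : g ∈ triv N) :
    (∀ z ∈ Zc N, z * g = g * z) ∧ ∀ b ∈ N, g * b * g⁻¹ * b⁻¹ ∈ Zc N :=
  ⟨fun z hz => mem_centralizer_iff.mp hg.2 z hz, fun b hb => cm_mem_of_ker hg.1 hb⟩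

theorem centralizer_le_triv (N : Subgroup G) [N.Normal] : centralizer (N : Set G) ≤ triv N := by
  intro g hg
  refine ⟨MonoidHom.mem_ker.mpr (MulEquiv.ext fun q => ?_), centralizer_le inf_le_left hg⟩
  obtain ⟨a, rfl⟩ := QuotientGroup.mk'_surjective _ q
  rw [act_pr, MulAut.one_apply]
  congr 1
  exact Subtype.ext (by
    rw [MulAut.conjNormal_apply, ← mem_centralizer_iff.mp hg a a.2, mul_inv_cancel_right])

variable {N : Subgroup G}

/-- The character of `N / Z(N)` attached to an element centralising it and `Z(N)`. -/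
noncomputable def chi [N.Normal] {L : Type*} [Field L] (ι : Zc N →* Lˣ) :
    triv N →* (Qt N →* Lˣ) :=
  MonoidHom.mk' (fun g => QuotientGroup.lift _
    (MonoidHom.mk' (fun b : N => ι ⟨(g : G) * b * (g : G)⁻¹ * (b : G)⁻¹, (triv_spec g.2).2 b b.2⟩)
      fun a b => by
        rw [← map_mul]
        congr 1
        refine Subtype.ext ?_
        show (g : G) * ((a : G) * b) * (g : G)⁻¹ * ((a : G) * b)⁻¹ =
          ((g : G) * a * (g : G)⁻¹ * (a : G)⁻¹) * ((g : G) * b * (g : G)⁻¹ * (b : G)⁻¹)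
        have h := (mem_Zc.mp ((triv_spec g.2).2 b b.2)).2 a a.2
        calc (g : G) * ((a : G) * b) * (g : G)⁻¹ * ((a : G) * b)⁻¹
            = ((g : G) * a * (g : G)⁻¹) * (((g : G) * b * (g : G)⁻¹ * (b : G)⁻¹) * (a : G)⁻¹) := by
              group
          _ = ((g : G) * a * (g : G)⁻¹) *
                ((a : G)⁻¹ * ((g : G) * b * (g : G)⁻¹ * (b : G)⁻¹)) := by
              congr 1
              exact ((mem_Zc.mp ((triv_spec g.2).2 b b.2)).2 _ (inv_mem a.2)).symm
          _ = _ := by rw [← mul_assoc])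
    fun b hb => by
      rw [MonoidHom.mem_ker, MonoidHom.mk'_apply]
      have e : (⟨(g : G) * b * (g : G)⁻¹ * (b : G)⁻¹, (triv_spec g.2).2 b b.2⟩ : Zc N) = 1 :=
        Subtype.ext (by
          show (g : G) * b * (g : G)⁻¹ * (b : G)⁻¹ = 1
          rw [← (triv_spec g.2).1 b (mem_subgroupOf.mp hb)]
          group)
      rw [e, map_one])
    fun g h => by
      refine MonoidHom.ext fun q => ?_
      obtain ⟨b, rfl⟩ := QuotientGroup.mk'_surjective _ q
      show ι _ = ι _ * ι _
      rw [← map_mul]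
      congr 1
      refine Subtype.ext ?_
      show ((g : G) * h) * b * ((g : G) * h)⁻¹ * (b : G)⁻¹ =
        ((g : G) * b * (g : G)⁻¹ * (b : G)⁻¹) * ((h : G) * b * (h : G)⁻¹ * (b : G)⁻¹)
      have hz := (triv_spec g.2).1 _ ((triv_spec h.2).2 b b.2)
      have hz' := (mem_Zc.mp ((triv_spec h.2).2 b b.2)).2 b b.2
      set z := (h : G) * b * (h : G)⁻¹ * (b : G)⁻¹ with hzdef
      calc ((g : G) * h) * b * ((g : G) * h)⁻¹ * (b : G)⁻¹
          = (g : G) * z * ((b : G) * (g : G)⁻¹ * (b : G)⁻¹) := by rw [hzdef]; group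
        _ = z * ((g : G) * b * (g : G)⁻¹ * (b : G)⁻¹) := by rw [← hz]; group
        _ = _ := (mem_Zc.mp ((triv_spec h.2).2 b b.2)).2 _
          (mem_Zc.mp ((triv_spec g.2).2 b b.2)).1 |>.symm

theorem chi_apply [N.Normal] {L : Type*} [Field L] (ι : Zc N →* Lˣ) (g : triv N) (b : N) :
    chi ι g (pr N b) = ι ⟨(g : G) * b * (g : G)⁻¹ * (b : G)⁻¹, (triv_spec g.2).2 b b.2⟩ := rfl

theorem chi_eq_one_iff [N.Normal] {L : Type*} [Field L] {ι : Zc N →* Lˣ}
    (hι : Function.Injective ι) (g : triv N) :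
    chi ι g = 1 ↔ (g : G) ∈ centralizer (N : Set G) := by
  constructor
  · intro h
    refine mem_centralizer_iff.mpr fun b hb => ?_
    have h1 := DFunLike.congr_fun h (pr N ⟨b, hb⟩)
    rw [chi_apply, MonoidHom.one_apply, ← map_one ι] at h1
    have h2 : (g : G) * b * (g : G)⁻¹ * b⁻¹ = 1 := congrArg Subtype.val (hι h1)
    rw [mul_inv_eq_one, mul_inv_eq_iff_eq_mul] at h2
    exact h2.symm
  · intro h
    refine MonoidHom.ext fun q => ?_
    obtain ⟨b, rfl⟩ := QuotientGroup.mk'_surjective _ q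
    rw [chi_apply, MonoidHom.one_apply, ← map_one ι]
    congr 1
    refine Subtype.ext ?_
    show (g : G) * b * (g : G)⁻¹ * (b : G)⁻¹ = 1
    rw [← mem_centralizer_iff.mp h b b.2]
    group

/-- The basic configuration. -/
structure Core (ρ : G →* (V ≃ₗ[ZMod p] V)) (s : ℕ) (N : Subgroup G) : Prop where
  prime : s.Prime
  normal : N.Normal
  pgrp : IsPGroup s N
  nonab : ¬ N ≤ centralizer (N : Set G)
  central : ∀ M : Subgroup G, M.Normal → M < N → M ≤ centralizer (N : Set G)
  fld : IsFld ρ (Zc N)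

variable [Finite G] [Group.IsSolvable G] {ρ : G →* (V ≃ₗ[ZMod p] V)} {s : ℕ}
  (C : Core ρ s N)
include C

theorem Core.cm_mem {a b : G} (ha : a ∈ N) (hb : b ∈ N) : a * b * a⁻¹ * b⁻¹ ∈ Zc N := by
  have := C.normal
  have hne : N ≠ ⊥ := fun h => C.nonab (by rw [h]; exact bot_le)
  have hlt := Group.IsSolvable.commutator_lt_of_ne_bot hne
  have h1 : a * b * a⁻¹ * b⁻¹ ∈ ⁅N, N⁆ := commutator_mem_commutator ha hb
  exact ⟨hlt.le h1, C.central _ inferInstance hlt h1⟩

theorem Core.qt_comm (u w : Qt N) : u * w = w * u := by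
  obtain ⟨a, rfl⟩ := QuotientGroup.mk'_surjective _ u
  obtain ⟨b, rfl⟩ := QuotientGroup.mk'_surjective _ w
  rw [← div_eq_one, div_eq_mul_inv, ← map_mul, ← map_mul, ← map_inv, ← map_mul, pr_eq_one]
  have e : ((a * b * (b * a)⁻¹ : N) : G) = (a : G) * b * (a : G)⁻¹ * (b : G)⁻¹ := by
    simp [mul_assoc]
  rw [e]
  exact C.cm_mem a.2 b.2

/-- `N / Z(N)` as a commutative group. -/
@[reducible] noncomputable def Core.commGroup : CommGroup (Qt N) :=
  { (inferInstance : Group (Qt N)) with mul_comm := C.qt_comm }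

theorem Core.le_triv [N.Normal] : N ≤ triv N := by
  intro a ha
  refine ⟨MonoidHom.mem_ker.mpr (MulEquiv.ext fun q => ?_),
    mem_centralizer_iff.mpr fun z hz => ((mem_Zc.mp hz).2 a ha).symm⟩
  obtain ⟨b, rfl⟩ := QuotientGroup.mk'_surjective _ q
  rw [act_pr, MulAut.one_apply, ← div_eq_one, div_eq_mul_inv, ← map_inv, ← map_mul, pr_eq_one]
  exact C.cm_mem ha b.2

theorem Core.qt_nontrivial : Nontrivial (Qt N) := by
  obtain ⟨a, ha, ha'⟩ := SetLike.not_le_iff_exists.mp C.nonab
  exact nontrivial_of_ne (pr N ⟨a, ha⟩) 1 fun h => ha' ((pr_eq_one _).mp h).2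

theorem Core.qt_pgrp : IsPGroup s (Qt N) := C.pgrp.to_quotient _

theorem Core.qt_exp (u : Qt N) : u ^ s = 1 := by
  classical
  have := C.normal
  have := Fact.mk C.prime
  letI := C.commGroup
  let R : Subgroup (Qt N) := (powMonoidHom s).range
  let M : Subgroup G := (R.comap (pr N)).map N.subtype
  have hM : M.Normal := by
    refine ⟨?_⟩
    rintro _ ⟨a, ⟨w, hw⟩, rfl⟩ g
    refine ⟨MulAut.conjNormal g a, ⟨act N g w, ?_⟩, MulAut.conjNormal_apply g a⟩
    simp only [powMonoidHom_apply] at hw ⊢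
    rw [← map_pow, hw, act_pr]
  have hne : M ≠ N := by
    intro h
    have hR : R = ⊤ := by
      refine eq_top_iff.mpr fun w _ => ?_
      obtain ⟨a, rfl⟩ := QuotientGroup.mk'_surjective _ w
      obtain ⟨b, hb, hba⟩ : (a : G) ∈ M := (by rw [h]; exact a.2)
      obtain rfl := Subtype.ext hba
      exact hb
    have hinj : Function.Injective (powMonoidHom s : Qt N →* Qt N) :=
      Finite.injective_iff_surjective.mpr (MonoidHom.range_eq_top.mp hR)
    obtain ⟨n, hn⟩ := IsPGroup.iff_card.mp C.qt_pgrp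
    have : Nontrivial (Qt N) := C.qt_nontrivial
    obtain ⟨y, hy⟩ := exists_prime_orderOf_dvd_card' (G := Qt N) s (by
      rw [hn]
      refine dvd_pow_self s fun e => ?_
      have h1 := Finite.one_lt_card (α := Qt N)
      rw [hn, e, pow_zero] at h1
      omega)
    have : y = 1 := hinj (by
      simp only [powMonoidHom_apply, one_pow]
      rw [← hy, pow_orderOf_eq_one])
    rw [this, orderOf_one] at hy
    exact C.prime.ne_one hy.symm
  have hle : M ≤ N := map_subtype_le _
  have hc := C.central M hM (lt_of_le_of_ne hle hne)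
  obtain ⟨a, rfl⟩ := QuotientGroup.mk'_surjective _ u
  rw [← map_pow, pr_eq_one]
  have hmem : ((a ^ s : N) : G) ∈ M := ⟨a ^ s, ⟨pr N a, (map_pow _ _ _).symm⟩, rfl⟩
  exact ⟨hle hmem, hc hmem⟩

/-- The pairing on `N / Z(N)`. -/
noncomputable def Core.pairing [N.Normal] {L : Type*} [Field L] (ι : Zc N →* Lˣ) :
    Qt N →* (Qt N →* Lˣ) :=
  QuotientGroup.lift _ ((chi ι).comp (Subgroup.inclusion C.le_triv)) fun z hz => by
    rw [MonoidHom.mem_ker, MonoidHom.comp_apply]
    refine MonoidHom.ext fun q => ?_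
    obtain ⟨b, rfl⟩ := QuotientGroup.mk'_surjective _ q
    rw [chi_apply, MonoidHom.one_apply, ← map_one ι]
    congr 1
    refine Subtype.ext ?_
    show (z : G) * b * (z : G)⁻¹ * (b : G)⁻¹ = 1
    rw [← (mem_Zc.mp (mem_subgroupOf.mp hz)).2 b b.2]
    group

theorem Core.pairing_apply [N.Normal] {L : Type*} [Field L] (ι : Zc N →* Lˣ) (a b : N) :
    C.pairing ι (pr N a) (pr N b) =
      ι ⟨(a : G) * b * (a : G)⁻¹ * (b : G)⁻¹, C.cm_mem a.2 b.2⟩ := rfl

theorem Core.pairing_injective [N.Normal] {L : Type*} [Field L] {ι : Zc N →* Lˣ}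
    (hι : Function.Injective ι) : Function.Injective (C.pairing ι) := by
  rw [injective_iff_map_eq_one]
  intro q hq
  obtain ⟨a, rfl⟩ := QuotientGroup.mk'_surjective _ q
  exact (pr_eq_one a).mpr ⟨a.2, (chi_eq_one_iff hι (Subgroup.inclusion C.le_triv a)).mp hq⟩

theorem Core.pairing_self [N.Normal] {L : Type*} [Field L] (ι : Zc N →* Lˣ) (q : Qt N) :
    C.pairing ι q q = 1 := by
  obtain ⟨a, rfl⟩ := QuotientGroup.mk'_surjective _ q
  rw [C.pairing_apply, ← map_one ι]
  congr 1
  exact Subtype.ext (by simp)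

end CfsgLib.Recog.Huppert
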