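import Cfsg.Agent.Lib.Recog.Huppert.Core

/-!
# The dimension bound and fixed points in the class two configuration

* `Core.exists_card`: `|N / Z(N)| = s ^ (2 k)` with `s ^ k ≤ dim_K V`, and the extremal case
* `Core.fixed_eq_one`: an element of order prime to `s` centralising `Z(N)`, with abelian
  centraliser in `N`, has no fixed points on `N / Z(N)`
-/

set_option autoImplicit false
set_option linter.all false
set_option maxHeartbeats 800000

namespace CfsgLib.Recog.Huppert

open Subgroup

variable {p : ℕ} [hp : Fact p.Prime] {V : Type*} [AddCommGroup V] [Module (ZMod p) V]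
  [Finite V] [Nontrivial V] {G : Type*} [Group G] [Finite G] [Group.IsSolvable G]
  {ρ : G →* (V ≃ₗ[ZMod p] V)} {s : ℕ} {N : Subgroup G}

theorem exists_embedding (hρ : Function.Injective ρ) (h : IsFld ρ (Zc N)) :
    letI := (isField_adj ρ (Zc_comm N) h).toField
    ∃ ι : Zc N →* (adj ρ (Zc N))ˣ, Function.Injective ι ∧
      ∀ z : Zc N, ((ι z : adj ρ (Zc N)) : Module.End (ZMod p) V) = T ρ z := by
  letI := (isField_adj ρ (Zc_comm N) h).toField
  let f : Zc N →* adj ρ (Zc N) :=
    { toFun := fun z => ⟨T ρ z, T_mem ρ z.2⟩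
      map_one' := Subtype.ext (T_one ρ)
      map_mul' := fun g g' => Subtype.ext (T_mul ρ g g') }
  exact ⟨f.toHomUnits, fun g g' e =>
    Subtype.ext (T_injective ρ hρ (congrArg Subtype.val (congrArg Units.val e))), fun z => rfl⟩

theorem Core.exists_card (hρ : Function.Injective ρ) [N.Normal] (C : Core ρ s N) :
    ∃ k m : ℕ, 1 ≤ k ∧ Nat.card (Qt N) = s ^ (2 * k) ∧
      Module.finrank (ZMod p) V = Module.finrank (ZMod p) (adj ρ (Zc N)) * m ∧ s ^ k ≤ m ∧
      (s ^ k = m → Nat.card (triv N) ∣
        (p ^ Module.finrank (ZMod p) (adj ρ (Zc N)) - 1) * Nat.card (Qt N)) := by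
  classical
  have := Fact.mk C.prime
  have hA := Zc_comm N
  letI := (isField_adj ρ hA C.fld).toField
  obtain ⟨ι, hι, hιT⟩ := exists_embedding hρ C.fld
  letI := C.commGroup
  have : Nontrivial (Qt N) := C.qt_nontrivial
  haveI : Fintype (Qt N) := Fintype.ofFinite _
  set β := C.pairing ι with hβ
  have hβi := C.pairing_injective hι
  obtain ⟨j, hj⟩ := exists_sq β hβi (C.pairing_self ι)
  obtain ⟨n0, hn0⟩ := IsPGroup.iff_card.mp C.qt_pgrp
  obtain ⟨k, -, hk⟩ : ∃ k ≤ n0, j = s ^ k :=
    (Nat.dvd_prime_pow C.prime).mp (by rw [← hn0, hj]; exact dvd_pow_self j two_ne_zero)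
  have hcard : Nat.card (Qt N) = s ^ (2 * k) := by rw [hj, hk, ← pow_mul, mul_comm]
  have hk1 : 1 ≤ k := by
    by_contra h0
    have h1 := Finite.one_lt_card (α := Qt N)
    rw [hcard, show 2 * k = 0 by omega, pow_zero] at h1
    omega
  -- the endomorphisms given by representatives
  let L := adj ρ (Zc N)
  set m := Module.finrank L V
  have hfin : Module.finrank (ZMod p) V = Module.finrank (ZMod p) L * m :=
    (Module.finrank_mul_finrank (ZMod p) L V).symm
  choose rep hrep using QuotientGroup.mk'_surjective ((Zc N).subgroupOf N)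
  have hlin : ∀ b : G, b ∈ centralizer (Zc N : Set G) → ∀ (c : L) (v : V),
      T ρ b (c • v) = c • T ρ b v := fun b hb c v =>
    LinearMap.congr_fun (commute_adj ρ hb c.2).eq v
  have hNc : ∀ a : N, (a : G) ∈ centralizer (Zc N : Set G) := fun a =>
    mem_centralizer_iff.mpr fun z hz => ((mem_Zc.mp hz).2 a a.2).symm
  let TL : Qt N → Module.End L V := fun q =>
    { toFun := T ρ (rep q : G)
      map_add' := map_add _
      map_smul' := fun c v => hlin _ (hNc _) c v }
  have hTL : ∀ q v, TL q v = T ρ (rep q : G) v := fun q v => rfl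
  have hli : LinearIndependent L TL := by
    rw [Fintype.linearIndependent_iff]
    intro c hc
    have h0 : ∀ v, ∑ q, c q • T ρ (rep q : G) v = 0 := fun v => by
      simpa [hTL] using LinearMap.congr_fun hc v
    -- twisting by conjugation
    have h1 : ∀ (b : N) v, ∑ q, (c q * (β q (pr N b) : L)) • T ρ (rep q : G) v = 0 := by
      intro b v
      have h2 : T ρ (b : G) (∑ q, (c q * (β q (pr N b) : L)) • T ρ (rep q : G) v) = 0 := by
        rw [map_sum, ← h0 (T ρ (b : G) v)]
        refine Finset.sum_congr rfl fun q _ => ?_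
        rw [hlin _ (hNc b), mul_smul]
        congr 1
        have hq : β q (pr N b) = ι ⟨_, C.cm_mem (rep q).2 b.2⟩ := by
          conv_lhs => rw [← hrep q]
          rw [hβ, C.pairing_apply]
        rw [hq]
        show ((ι _ : L) : Module.End (ZMod p) V) (T ρ (b : G) (T ρ (rep q : G) v)) =
          T ρ (rep q : G) (T ρ (b : G) v)
        rw [hιT, ← Module.End.mul_apply, ← T_mul, ← Module.End.mul_apply, ← T_mul,
          ← Module.End.mul_apply, ← T_mul]
        congr 2
        group
      exact (LinearEquiv.map_eq_zero_iff (ρ (b : G))).mp h2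
    intro q
    obtain ⟨v, hv⟩ := exists_ne (0 : V)
    by_contra hq
    have hv' : T ρ (rep q : G) v ≠ 0 := fun e =>
      hv ((LinearEquiv.map_eq_zero_iff (ρ (rep q : G))).mp e)
    obtain ⟨φ, hφ⟩ : ∃ φ : Module.Dual L V, φ (T ρ (rep q : G) v) ≠ 0 := by
      by_contra! h
      exact hv' ((Module.forall_dual_apply_eq_zero_iff L _).mp h)
    have hind : LinearIndependent L (fun q : Qt N => fun w : Qt N => (β q w : L)) := by
      have h3 := (linearIndependent_monoidHom (Qt N) L).comp
        (fun q => (Units.coeHom L).comp (β q)) ((coe_comp_injective (Qt N)).comp hβi)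
      exact h3
    have h4 := Fintype.linearIndependent_iff.mp hind (fun q' => c q' * φ (T ρ (rep q' : G) v)) (by
      funext w
      obtain ⟨b, rfl⟩ := QuotientGroup.mk'_surjective _ w
      simp only [Finset.sum_apply, Pi.smul_apply, smul_eq_mul, Pi.zero_apply]
      rw [← map_zero φ, ← h1 b v, map_sum]
      refine Finset.sum_congr rfl fun q' _ => ?_
      rw [map_smul, smul_eq_mul]
      ring) q
    exact hφ ((mul_eq_zero.mp h4).resolve_left hq)
  have hle : Nat.card (Qt N) ≤ m * m := by
    have h1 := hli.fintype_card_le_finrank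
    rw [Module.finrank_linearMap] at h1
    rwa [Nat.card_eq_fintype_card]
  have hkm : s ^ k ≤ m := by
    rw [hcard, mul_comm 2 k, pow_mul, sq] at hle
    exact Nat.mul_self_le_mul_self_iff.mp hle
  refine ⟨k, m, hk1, hcard, hfin, hkm, fun heq => ?_⟩
  -- the extremal case
  have hspan : Submodule.span L (Set.range TL) = ⊤ := by
    refine hli.span_eq_top_of_card_eq_finrank ?_
    rw [← Nat.card_eq_fintype_card, hcard, Module.finrank_linearMap]
    show _ = m * m
    rw [← heq, ← pow_add, two_mul]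
  have hCN : ∀ g ∈ centralizer (N : Set G), T ρ g ∈ adj ρ (Zc N) := by
    intro g hg
    have hgZ : g ∈ centralizer (Zc N : Set G) := centralizer_le inf_le_left hg
    let gL : Module.End L V :=
      { toFun := T ρ g
        map_add' := map_add _
        map_smul' := fun c v => hlin g hgZ c v }
    have hcomm : ∀ f : Module.End L V, gL * f = f * gL := by
      intro f
      have hf : f ∈ Submodule.span L (Set.range TL) := hspan ▸ Submodule.mem_top
      induction hf using Submodule.span_induction with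
      | mem f hf =>
        obtain ⟨q, rfl⟩ := hf
        refine LinearMap.ext fun v => ?_
        show T ρ g (T ρ (rep q : G) v) = T ρ (rep q : G) (T ρ g v)
        rw [← Module.End.mul_apply, ← T_mul, ← Module.End.mul_apply, ← T_mul,
          mem_centralizer_iff.mp hg _ (rep q).2]
      | zero => simp
      | add x y _ _ ex ey => rw [mul_add, add_mul, ex, ey]
      | smul c x _ ex => rw [mul_smul_comm, smul_mul_assoc, ex]
    obtain ⟨v0, hv0⟩ := exists_ne (0 : V)
    obtain ⟨φ, hφ⟩ : ∃ φ : Module.Dual L V, φ v0 ≠ 0 := by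
      by_contra! h
      exact hv0 ((Module.forall_dual_apply_eq_zero_iff L _).mp h)
    let a : L := (φ v0)⁻¹ * φ (T ρ g v0)
    suffices T ρ g = (a : Module.End (ZMod p) V) by rw [this]; exact a.2
    refine LinearMap.ext fun w => ?_
    have h := LinearMap.congr_fun (hcomm (((φ v0)⁻¹ • φ).smulRight w)) v0
    change T ρ g (((φ v0)⁻¹ * φ v0) • w) = ((φ v0)⁻¹ * φ (T ρ g v0)) • w at h
    rw [inv_mul_cancel₀ hφ, one_smul] at h
    exact h
  have hcN : Nat.card (centralizer (N : Set G)) ∣ p ^ Module.finrank (ZMod p) L - 1 :=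
    card_dvd_units ρ hρ hA C.fld _ hCN
  have hker : (chi ι).ker = (centralizer (N : Set G)).subgroupOf (triv N) := by
    ext g
    rw [MonoidHom.mem_ker, mem_subgroupOf, chi_eq_one_iff hι]
  rw [← (chi ι).ker.card_mul_index, hker,
    Nat.card_congr (subgroupOfEquivOfLe (centralizer_le_triv N)).toEquiv, ← hker,
    Subgroup.index_ker]
  refine mul_dvd_mul hcN ?_
  have hpg : IsPGroup s (chi ι).range := fun f => ⟨1, Subtype.ext (by
    obtain ⟨g, hg⟩ := f.2
    rw [pow_one, Subgroup.coe_pow, ← hg]
    refine MonoidHom.ext fun q => ?_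
    show (chi ι g q) ^ s = 1
    rw [← map_pow, C.qt_exp, map_one])⟩
  obtain ⟨i, hi⟩ := IsPGroup.iff_card.mp hpg
  have hle2 : Nat.card (chi ι).range ≤ s ^ (2 * k) := by
    rw [← hcard]
    exact (Subgroup.card_le_card_group _).trans (card_hom_le (L := L) _)
  rw [hi, hcard] at *
  exact pow_dvd_pow s ((Nat.pow_le_pow_iff_right C.prime.one_lt).mp hle2)

theorem Core.fixed_eq_one (hρ : Function.Injective ρ) [N.Normal] (C : Core ρ s N) {x : G}
    (hxZ : x ∈ centralizer (Zc N : Set G)) (hcop : (orderOf x).Coprime s)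
    (hcom : ∀ a ∈ N, ∀ b ∈ N, x * a = a * x → x * b = b * x → a * b = b * a)
    {q : Qt N} (hq : act N x q = q) : q = 1 := by
  have hA := Zc_comm N
  letI := (isField_adj ρ hA C.fld).toField
  obtain ⟨ι, hι, -⟩ := exists_embedding hρ C.fld
  have := Fact.mk C.prime
  letI := C.commGroup
  have hfix : ∀ u : Qt N, act N x u = u → ∀ a : N, pr N a = u → x * a = (a : G) * x := by
    intro u hu a ha
    subst ha
    rw [act_pr, ← div_eq_one, div_eq_mul_inv, ← map_inv, ← map_mul, pr_eq_one] at hu
    have hz : x * a * x⁻¹ * (a : G)⁻¹ ∈ Zc N := hu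
    set z := x * (a : G) * x⁻¹ * (a : G)⁻¹ with hzdef
    have hzx : Commute x z := (mem_centralizer_iff.mp hxZ z hz).symm
    have hpow : ∀ i : ℕ, x ^ i * a * (x ^ i)⁻¹ = z ^ i * a := by
      intro i
      induction i with
      | zero => simp
      | succ i ih =>
        calc x ^ (i + 1) * a * (x ^ (i + 1))⁻¹ = x * (x ^ i * a * (x ^ i)⁻¹) * x⁻¹ := by
              rw [pow_succ']; group
          _ = z ^ i * (x * a * x⁻¹) := by
              rw [ih, ← mul_assoc, (hzx.pow_right i).eq]; group
          _ = z ^ (i + 1) * a := by rw [pow_succ, hzdef]; group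
    have h1 := hpow (orderOf x)
    rw [pow_orderOf_eq_one, one_mul, inv_one, mul_one, right_eq_mul] at h1
    obtain ⟨e, he⟩ := IsPGroup.iff_orderOf.mp C.pgrp ⟨z, (mem_Zc.mp hz).1⟩
    rw [Subgroup.orderOf_mk] at he
    have hz1 : z = 1 := orderOf_eq_one_iff.mp (Nat.eq_one_of_dvd_coprimes (hcop.pow_right e)
      (orderOf_dvd_of_pow_eq_one h1) he.dvd)
    rw [hzdef, mul_inv_eq_one, mul_inv_eq_iff_eq_mul] at hz1
    exact hz1
  refine CfsgLib.Recog.Huppert.fixed_eq_one (C.pairing ι) (C.pairing_injective hι) (act N x) (r := orderOf x) (s := s)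
    (by rw [← map_pow, pow_orderOf_eq_one, map_one]) hcop C.qt_exp ?_ ?_ hq
  · intro u w
    obtain ⟨a, rfl⟩ := QuotientGroup.mk'_surjective _ u
    obtain ⟨b, rfl⟩ := QuotientGroup.mk'_surjective _ w
    rw [act_pr, act_pr, C.pairing_apply, C.pairing_apply]
    congr 1
    refine Subtype.ext ?_
    have h := mem_centralizer_iff.mp hxZ _ (C.cm_mem a.2 b.2)
    simp only [MulAut.conjNormal_apply]
    calc (x * a * x⁻¹) * (x * b * x⁻¹) * (x * a * x⁻¹)⁻¹ * (x * b * x⁻¹)⁻¹
        = x * ((a : G) * b * (a : G)⁻¹ * (b : G)⁻¹) * x⁻¹ := by group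
      _ = _ := by rw [← h, mul_inv_cancel_right]
  · intro u w hu hw
    obtain ⟨a, rfl⟩ := QuotientGroup.mk'_surjective _ u
    obtain ⟨b, rfl⟩ := QuotientGroup.mk'_surjective _ w
    rw [C.pairing_apply, ← map_one ι]
    congr 1
    refine Subtype.ext ?_
    show (a : G) * b * (a : G)⁻¹ * (b : G)⁻¹ = 1
    rw [hcom a a.2 b b.2 (hfix _ hu a rfl) (hfix _ hw b rfl)]
    group

end CfsgLib.Recog.Huppert
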