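import Mathlib

/-!
# Abelian normal subgroups of linear groups and the fields they generate

For an abelian subgroup `A` of a linear group, `adj ρ A` is the algebra generated by `A`. It is a
field as soon as the group is transitive on non-zero vectors, or contains an irreducible element
of prime order larger than the dimension.
-/

set_option autoImplicit false
set_option linter.all false
set_option maxHeartbeats 400000

namespace CfsgLib.Recog.Huppert

open Subgroup

variable {p : ℕ} [hp : Fact p.Prime] {V : Type*} [AddCommGroup V] [Module (ZMod p) V]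
  {G : Type*} [Group G] (ρ : G →* (V ≃ₗ[ZMod p] V))

/-- The endomorphism given by a group element. -/
def T (g : G) : Module.End (ZMod p) V := (ρ g : V →ₗ[ZMod p] V)

theorem T_apply (g : G) (v : V) : T ρ g v = ρ g v := rfl

theorem T_mul (g h : G) : T ρ (g * h) = T ρ g * T ρ h := by
  refine LinearMap.ext fun v => ?_
  simp [T_apply, map_mul]

theorem T_one : T ρ (1 : G) = 1 := by
  refine LinearMap.ext fun v => ?_
  simp [T_apply]

theorem T_pow (g : G) (m : ℕ) : T ρ (g ^ m) = T ρ g ^ m := by
  induction m with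
  | zero => simp [T_one]
  | succ m ih => rw [pow_succ, pow_succ, T_mul, ih]

theorem T_injective (hρ : Function.Injective ρ) : Function.Injective (T ρ) := fun g h e =>
  hρ (LinearEquiv.toLinearMap_injective e)

/-- The algebra generated by a subgroup. -/
noncomputable def adj (A : Subgroup G) : Subalgebra (ZMod p) (Module.End (ZMod p) V) :=
  Algebra.adjoin (ZMod p) (T ρ '' (A : Set G))

variable {A : Subgroup G}

theorem T_mem {a : G} (ha : a ∈ A) : T ρ a ∈ adj ρ A := Algebra.subset_adjoin ⟨a, ha, rfl⟩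

theorem commute_adj {g : G} (hg : g ∈ centralizer (A : Set G)) {k : Module.End (ZMod p) V}
    (hk : k ∈ adj ρ A) : Commute (T ρ g) k := by
  induction hk using Algebra.adjoin_induction with
  | mem x hx =>
    obtain ⟨a, ha, rfl⟩ := hx
    show T ρ g * T ρ a = T ρ a * T ρ g
    rw [← T_mul, ← T_mul, (mem_centralizer_iff.mp hg a ha)]
  | algebraMap r => exact (Algebra.commute_algebraMap_left r _).symm
  | add x y _ _ ex ey => exact ex.add_right ey
  | mul x y _ _ ex ey => exact ex.mul_right ey

theorem adj_comm (hA : A ≤ centralizer (A : Set G)) {j k : Module.End (ZMod p) V}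
    (hj : j ∈ adj ρ A) (hk : k ∈ adj ρ A) : Commute j k := by
  induction hj using Algebra.adjoin_induction with
  | mem x hx => obtain ⟨a, ha, rfl⟩ := hx; exact commute_adj ρ (hA ha) hk
  | algebraMap r => exact Algebra.commute_algebraMap_left r _
  | add x y _ _ ex ey => exact ex.add_left ey
  | mul x y _ _ ex ey => exact ex.mul_left ey

/-- Conjugation by a group element. -/
noncomputable def cj (g : G) : Module.End (ZMod p) V ≃ₐ[ZMod p] Module.End (ZMod p) V :=
  (ρ g).conjAlgEquiv (ZMod p)

theorem cj_apply (g : G) (k : Module.End (ZMod p) V) (v : V) : cj ρ g k (ρ g v) = ρ g (k v) := by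
  show ρ g (k ((ρ g).symm (ρ g v))) = _
  rw [LinearEquiv.symm_apply_apply]

theorem cj_mul_T (g : G) (k : Module.End (ZMod p) V) : cj ρ g k * T ρ g = T ρ g * k :=
  LinearMap.ext fun v => cj_apply ρ g k v

theorem ext_T {g : G} {j k : Module.End (ZMod p) V} (h : j * T ρ g = k * T ρ g) : j = k := by
  refine LinearMap.ext fun v => ?_
  obtain ⟨w, rfl⟩ := (ρ g).surjective v
  exact LinearMap.congr_fun h w

theorem cj_T (g a : G) : cj ρ g (T ρ a) = T ρ (g * a * g⁻¹) :=
  ext_T ρ (g := g) (by rw [cj_mul_T, ← T_mul, ← T_mul]; congr 1; group)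

theorem cj_mem (hAn : A.Normal) (g : G) {k : Module.End (ZMod p) V} (hk : k ∈ adj ρ A) :
    cj ρ g k ∈ adj ρ A := by
  induction hk using Algebra.adjoin_induction with
  | mem x hx =>
    obtain ⟨a, ha, rfl⟩ := hx
    rw [cj_T]
    exact T_mem ρ (hAn.conj_mem a ha g)
  | algebraMap r => rw [AlgEquiv.commutes]; exact Subalgebra.algebraMap_mem _ r
  | add x y _ _ ex ey => rw [map_add]; exact add_mem ex ey
  | mul x y _ _ ex ey => rw [map_mul]; exact mul_mem ex ey

/-- The subgroup acts irreducibly. -/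
def Irred (A : Subgroup G) : Prop :=
  ∀ W : Submodule (ZMod p) V, (∀ a ∈ A, ∀ v ∈ W, ρ a v ∈ W) → W = ⊥ ∨ W = ⊤

/-- The generated algebra is a field acting on `V`. -/
def IsFld (A : Subgroup G) : Prop := ∀ k ∈ adj ρ A, ∀ v : V, v ≠ 0 → k v = 0 → k = 0

/-- The generated algebra is as large as `V`. -/
def Full (A : Subgroup G) : Prop := Nat.card (adj ρ A) = Nat.card V

theorem Irred.mono {B : Subgroup G} (h : Irred ρ A) (hAB : A ≤ B) : Irred ρ B :=
  fun W hW => h W fun a ha => hW a (hAB ha)

theorem adj_invariant {W : Submodule (ZMod p) V} (hW : ∀ a ∈ A, ∀ v ∈ W, ρ a v ∈ W)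
    {k : Module.End (ZMod p) V} (hk : k ∈ adj ρ A) : ∀ v ∈ W, k v ∈ W := by
  induction hk using Algebra.adjoin_induction with
  | mem x hx => obtain ⟨a, ha, rfl⟩ := hx; exact fun v hv => hW a ha v hv
  | algebraMap r => intro v hv; exact W.smul_mem r hv
  | add x y _ _ ex ey => intro v hv; exact W.add_mem (ex v hv) (ey v hv)
  | mul x y _ _ ex ey => intro v hv; exact ex _ (ey v hv)

theorem ker_invariant (hA : A ≤ centralizer (A : Set G)) {k : Module.End (ZMod p) V}
    (hk : k ∈ adj ρ A) : ∀ a ∈ A, ∀ v ∈ LinearMap.ker k, ρ a v ∈ LinearMap.ker k := by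
  intro a ha v hv
  rw [LinearMap.mem_ker] at hv ⊢
  have h := LinearMap.congr_fun (adj_comm ρ hA hk (T_mem ρ ha)).eq v
  simp only [Module.End.mul_apply, T_apply, hv, map_zero] at h
  exact h

theorem isFld_of_irred (hA : A ≤ centralizer (A : Set G)) (h : Irred ρ A) : IsFld ρ A := by
  intro k hk v hv hkv
  rcases h _ (ker_invariant ρ hA hk) with e | e
  · exact absurd ((Submodule.mem_bot _).1 (e ▸ LinearMap.mem_ker.2 hkv)) hv
  · exact LinearMap.ker_eq_top.1 e

/-- Evaluation at a vector. -/
noncomputable def ev (A : Subgroup G) (v : V) : adj ρ A →ₗ[ZMod p] V :=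
  (LinearMap.applyₗ v).comp (adj ρ A).val.toLinearMap

theorem ev_apply (v : V) (k : adj ρ A) : ev ρ A v k = (k : Module.End (ZMod p) V) v := rfl

theorem ev_injective (h : IsFld ρ A) {v : V} (hv : v ≠ 0) : Function.Injective (ev ρ A v) := by
  rw [← LinearMap.ker_eq_bot, Submodule.eq_bot_iff]
  exact fun k hk => Subtype.ext (h _ k.2 v hv (LinearMap.mem_ker.1 hk))

theorem full_of_irred [Finite V] [Nontrivial V] (hA : A ≤ centralizer (A : Set G))
    (h : Irred ρ A) : Full ρ A := by
  obtain ⟨v, hv⟩ := exists_ne (0 : V)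
  refine Nat.card_congr (Equiv.ofBijective _ ⟨ev_injective ρ (isFld_of_irred ρ hA h) hv, ?_⟩)
  rw [← LinearMap.range_eq_top]
  refine (h _ ?_).resolve_left fun e => hv ?_
  · rintro a ha _ ⟨k, rfl⟩
    exact ⟨⟨T ρ a, T_mem ρ ha⟩ * k, rfl⟩
  · have h1 : v ∈ LinearMap.range (ev ρ A v) := ⟨1, rfl⟩
    rw [e, Submodule.mem_bot] at h1
    exact h1

theorem exists_minimal_invariant [Finite V] [Nontrivial V] (A : Subgroup G) :
    ∃ W : Submodule (ZMod p) V, W ≠ ⊥ ∧ (∀ a ∈ A, ∀ v ∈ W, ρ a v ∈ W) ∧
      ∀ U ≤ W, (∀ a ∈ A, ∀ v ∈ U, ρ a v ∈ U) → U = ⊥ ∨ U = W := by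
  classical
  have : Finite (Submodule (ZMod p) V) :=
    Finite.of_injective (fun W => (W : Set V)) SetLike.coe_injective
  let S := {W : Submodule (ZMod p) V | W ≠ ⊥ ∧ ∀ a ∈ A, ∀ v ∈ W, ρ a v ∈ W}
  obtain ⟨W, hW⟩ := (Set.toFinite S).exists_minimal
    ⟨⊤, top_ne_bot, fun a _ v _ => Submodule.mem_top⟩
  refine ⟨W, hW.prop.1, hW.prop.2, fun U hle hU => ?_⟩
  by_cases hb : U = ⊥
  · exact Or.inl hb
  · exact Or.inr (le_antisymm hle (hW.le_of_le ⟨hb, hU⟩ hle))

/-- An abelian normal subgroup of a transitive group generates a field. -/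
theorem isFld_of_transitive [Finite V] [Nontrivial V] (hA : A ≤ centralizer (A : Set G))
    (hAn : A.Normal) (htr : ∀ v w : V, v ≠ 0 → w ≠ 0 → ∃ g : G, ρ g v = w) : IsFld ρ A := by
  obtain ⟨W, hW0, hWi, hWm⟩ := exists_minimal_invariant ρ A
  obtain ⟨w₀, hw₀, hw₀0⟩ := Submodule.exists_mem_ne_zero_of_ne_bot hW0
  -- each vector generates a simple module
  have simple : ∀ u : V, u ≠ 0 → ∀ k ∈ adj ρ A, k u ≠ 0 →
      ∃ j ∈ adj ρ A, j (k u) = u := by
    intro u hu k hk hku
    obtain ⟨g, rfl⟩ := htr w₀ u hw₀0 hu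
    have e : k = cj ρ g (cj ρ g⁻¹ k) := ext_T ρ (g := g) (by
      rw [cj_mul_T]
      apply LinearMap.ext
      intro v
      have h := cj_apply ρ g⁻¹ k (ρ g v)
      rw [← LinearEquiv.mul_apply, ← map_mul, inv_mul_cancel, map_one] at h
      change k (ρ g v) = ρ g ((cj ρ g⁻¹ k) v)
      rw [show (1 : V ≃ₗ[ZMod p] V) v = v from rfl] at h
      rw [h, ← LinearEquiv.mul_apply, ← map_mul, mul_inv_cancel, map_one]
      rfl)
    set k' := cj ρ g⁻¹ k
    have hk' : k' ∈ adj ρ A := cj_mem ρ hAn _ hk
    have hne : k' w₀ ≠ 0 := fun h => hku (by rw [e, cj_apply, h, map_zero])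
    let U : Submodule (ZMod p) V := LinearMap.range (ev ρ A (k' w₀))
    have hUW : U ≤ W := by
      rintro _ ⟨j, rfl⟩
      exact adj_invariant ρ hWi j.2 _ (adj_invariant ρ hWi hk' _ hw₀)
    rcases hWm U hUW (by
      rintro a ha _ ⟨j, rfl⟩
      exact ⟨⟨T ρ a, T_mem ρ ha⟩ * j, rfl⟩) with h | h
    · exact absurd ((Submodule.mem_bot _).1 (h ▸ ⟨1, rfl⟩ : k' w₀ ∈ (⊥ : Submodule (ZMod p) V))) hne
    · obtain ⟨j, hj⟩ : w₀ ∈ U := h ▸ hw₀
      refine ⟨cj ρ g j, cj_mem ρ hAn _ j.2, ?_⟩
      rw [e, cj_apply, cj_apply]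
      exact congrArg _ hj
  intro k hk v hv hkv
  by_contra hk0
  obtain ⟨w, hw⟩ : ∃ w, k w ≠ 0 := by
    by_contra! h
    exact hk0 (LinearMap.ext h)
  have hw0 : w ≠ 0 := fun h => hw (by rw [h, map_zero])
  have hvw : v + w ≠ 0 := fun h => by
    have := congrArg k h
    rw [map_add, hkv, zero_add, map_zero] at this
    exact hw this
  have hkvw : k (v + w) = k w := by rw [map_add, hkv, zero_add]
  obtain ⟨j, hj, hj'⟩ := simple _ hvw k hk (by rwa [hkvw])
  rw [hkvw] at hj'
  -- `v` lies in the module generated by `w`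
  have hv' : v = (j * k - 1) w := by
    rw [LinearMap.sub_apply, Module.End.mul_apply, Module.End.one_apply, hj', add_sub_cancel_right]
  obtain ⟨i, hi, hi'⟩ := simple w hw0 (j * k - 1)
    (sub_mem (mul_mem hj hk) (one_mem _)) (by rw [← hv']; exact hv)
  rw [← hv'] at hi'
  exact hw (by
    rw [← hi', ← Module.End.mul_apply, (adj_comm ρ hA hk hi).eq, Module.End.mul_apply, hkv,
      map_zero])

/-- An abelian normal subgroup of a group with an irreducible element of large prime order
generates a field. -/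
theorem isFld_of_irred_elt [Finite V] [Nontrivial V] (hA : A ≤ centralizer (A : Set G))
    (hAn : A.Normal) {x : G} {r : ℕ} (hr : r.Prime) (hxr : x ^ r = 1)
    (hx : Irred ρ (zpowers x)) (hn : Module.finrank (ZMod p) V < r) : IsFld ρ A := by
  classical
  have hFE : Finite (Module.End (ZMod p) V) := Finite.of_injective _ DFunLike.coe_injective
  -- invariant subspaces of `x`
  have hxinv : ∀ W : Submodule (ZMod p) V, (∀ v ∈ W, ρ x v ∈ W) → W = ⊥ ∨ W = ⊤ := by
    intro W hW
    refine hx W fun a ha v hv => ?_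
    obtain ⟨m, rfl⟩ : ∃ m : ℕ, x ^ m = a :=
      (Submonoid.mem_powers_iff _ _).1 (((isOfFinOrder_iff_pow_eq_one.mpr
        ⟨r, hr.pos, hxr⟩).mem_powers_iff_mem_zpowers).mpr ha)
    induction m with
    | zero => simpa using hv
    | succ m ih => rw [pow_succ', map_mul]; exact hW _ (ih (pow_mem (mem_zpowers x) m))
  -- the nilpotent elements vanish
  have hred : ∀ k ∈ adj ρ A, IsNilpotent k → k = 0 := by
    intro k hk hnil
    obtain ⟨W, hW0, hWi, hWm⟩ := exists_minimal_invariant ρ A
    let W₁ : Submodule (ZMod p) V :=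
      ⨅ j : {j // j ∈ adj ρ A ∧ IsNilpotent j}, LinearMap.ker (j : Module.End (ZMod p) V)
    have hWW : W ≤ W₁ := le_iInf fun ⟨j, hj, ⟨m, hm⟩⟩ => by
      intro w hw
      rw [LinearMap.mem_ker]
      rcases hWm (W ⊓ LinearMap.ker j) inf_le_left
          (fun a ha v hv => ⟨hWi a ha v hv.1, ker_invariant ρ hA hj a ha v hv.2⟩) with h | h
      · have hz : ∀ (m : ℕ), ∀ u ∈ W, (j ^ m) u = 0 → u = 0 := by
          intro m
          induction m with
          | zero => intro u _ hu; simpa using hu
          | succ m ih =>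
            intro u hu hu'
            rw [pow_succ, Module.End.mul_apply] at hu'
            have h1 := ih _ (adj_invariant ρ hWi hj u hu) hu'
            have h2 : u ∈ W ⊓ LinearMap.ker j := ⟨hu, LinearMap.mem_ker.2 h1⟩
            rw [h, Submodule.mem_bot] at h2
            exact h2
        rw [hz m w hw (by simp [hm]), map_zero]
      · exact LinearMap.mem_ker.1 (inf_eq_left.mp h hw)
    have hxi : ∀ v ∈ W₁, ρ x v ∈ W₁ := by
      intro v hv
      simp only [W₁, Submodule.mem_iInf, LinearMap.mem_ker, Subtype.forall] at hv ⊢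
      intro j hj
      have hj' : cj ρ x⁻¹ j ∈ adj ρ A ∧ IsNilpotent (cj ρ x⁻¹ j) :=
        ⟨cj_mem ρ hAn _ hj.1, hj.2.map (cj ρ x⁻¹)⟩
      have h1 := hv _ hj'
      have h2 := cj_apply ρ x⁻¹ j (ρ x v)
      rw [← LinearEquiv.mul_apply, ← map_mul, inv_mul_cancel, map_one,
        show (1 : V ≃ₗ[ZMod p] V) v = v from rfl, h1] at h2
      exact (LinearEquiv.map_eq_zero_iff _).1 h2.symm
    rcases hxinv W₁ hxi with h | h
    · exact absurd (eq_bot_iff.mpr (hWW.trans h.le)) hW0
    · refine LinearMap.ext fun v => ?_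
      have hv : v ∈ W₁ := h ▸ Submodule.mem_top
      simp only [W₁, Submodule.mem_iInf, LinearMap.mem_ker, Subtype.forall] at hv
      exact hv k ⟨hk, hnil⟩
  intro k hk v hv hkv
  by_contra hk0
  -- an idempotent
  obtain ⟨e, he, hee, he0, he1⟩ :
      ∃ e, e ∈ adj ρ A ∧ e * e = e ∧ e ≠ 0 ∧ e ≠ 1 := by
    obtain ⟨a, b, hne, hab⟩ := Finite.exists_ne_map_eq_of_infinite fun m : ℕ => k ^ m
    wlog hlt : a < b generalizing a b
    · exact this b a hne.symm hab.symm (by omega)
    obtain ⟨t, rfl⟩ : ∃ t, b = a + (t + 1) := ⟨b - a - 1, by omega⟩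
    try simp only at hab
    have hper : ∀ i m, a ≤ m → k ^ (m + i * (t + 1)) = k ^ m := by
      intro i
      induction i with
      | zero => simp
      | succ i ih =>
        intro m hm
        rw [show m + (i + 1) * (t + 1) = m + i * (t + 1) + (t + 1) by ring]
        obtain ⟨c, hc⟩ : ∃ c, m + i * (t + 1) = c + a := ⟨m + i * (t + 1) - a, by omega⟩
        rw [← ih m hm, hc, add_assoc, pow_add, ← hab, ← pow_add]
    set N := (a + 1) * (t + 1)
    have hN : 0 < N := Nat.mul_pos (by omega) (by omega)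
    refine ⟨k ^ N, pow_mem hk N, ?_, fun h => hk0 (hred k hk ⟨N, h⟩), fun h => hv ?_⟩
    · rw [← pow_add]
      exact hper (a + 1) N (by
        calc a ≤ a + 1 := by omega
          _ ≤ N := Nat.le_mul_of_pos_right _ (by omega))
    · have : (k ^ N) v = 0 := by
        rw [show N = (N - 1) + 1 by omega, pow_succ, Module.End.mul_apply, hkv, map_zero]
      rwa [h] at this
  -- one with smallest image
  let S := {e | e ∈ adj ρ A ∧ e * e = e ∧ e ≠ 0 ∧ e ≠ 1}
  let sz : Module.End (ZMod p) V → ℕ := fun e => Nat.card (LinearMap.range e)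
  obtain ⟨e, ⟨he, hee, he0, he1⟩, hmin⟩ :=
    Set.exists_min_image S sz (Set.toFinite S) ⟨e, he, hee, he0, he1⟩
  let c : ℕ → Module.End (ZMod p) V := fun i => cj ρ (x ^ i) e
  have hcS : ∀ i, c i ∈ S := fun i =>
    ⟨cj_mem ρ hAn _ he, by simp only [c]; rw [← map_mul, hee],
      fun h => he0 ((cj ρ (x ^ i)).injective (by rw [map_zero]; exact h)),
      fun h => he1 ((cj ρ (x ^ i)).injective (by rw [map_one]; exact h))⟩
  have hsz : ∀ i, sz (c i) = sz e := fun i => by
    refine (Nat.card_congr (Equiv.subtypeEquiv (ρ (x ^ i)).toEquiv fun w => ?_)).symm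
    constructor
    · rintro ⟨u, rfl⟩; exact ⟨ρ (x ^ i) u, cj_apply ρ _ e u⟩
    · rintro ⟨u, hu⟩
      obtain ⟨u', rfl⟩ := (ρ (x ^ i)).surjective u
      rw [cj_apply] at hu
      exact ⟨u', (ρ (x ^ i)).injective hu⟩
  have horth : ∀ i j, c i * c j ≠ 0 → c i * c j = c i := by
    intro i j hne
    have hcm := adj_comm ρ hA (hcS i).1 (hcS j).1
    set f := c i * c j with hf
    have hrange : LinearMap.range f ≤ LinearMap.range (c i) := LinearMap.range_comp_le_range _ _
    have hfS : f ∈ S := by
      refine ⟨mul_mem (hcS i).1 (hcS j).1, ?_, hne, fun h => (hcS i).2.2.2 ?_⟩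
      · calc f * f = c i * (c j * c i) * c j := by rw [hf]; simp [mul_assoc]
          _ = c i * (c i * c j) * c j := by rw [hcm.eq]
          _ = (c i * c i) * (c j * c j) := by simp [mul_assoc]
          _ = f := by rw [(hcS i).2.1, (hcS j).2.1]
      · calc c i = c i * (c i * c j) := by rw [← hf, h, mul_one]
          _ = f := by rw [← mul_assoc, (hcS i).2.1]
          _ = 1 := h
    have heq : LinearMap.range f = LinearMap.range (c i) := by
      refine SetLike.coe_injective (Set.eq_of_subset_of_ncard_le hrange ?_ (Set.toFinite _))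
      rw [← Nat.card_coe_set_eq, ← Nat.card_coe_set_eq]
      exact (hsz i).le.trans (hmin f hfS)
    refine LinearMap.ext fun w => ?_
    obtain ⟨u, hu⟩ : c i w ∈ LinearMap.range f := heq ▸ LinearMap.mem_range_self _ w
    calc f w = (c i * c j) w := rfl
      _ = c j (c i w) := by rw [hcm.eq]; rfl
      _ = c j (f u) := by rw [hu]
      _ = (c j * c j * c i) u := by rw [hf, hcm.eq]; rfl
      _ = f u := by rw [(hcS j).2.1, ← hcm.eq]
      _ = c i w := hu
  have hfix : cj ρ x e = e := by
    by_contra hmove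
    have hcc : ∀ a b : ℕ, cj ρ (x ^ (a + b)) e = cj ρ (x ^ a) (cj ρ (x ^ b) e) := fun a b =>
      ext_T ρ (g := x ^ (a + b)) (by
        rw [cj_mul_T, pow_add, T_mul, ← mul_assoc (cj ρ (x ^ a) _), cj_mul_T, mul_assoc, mul_assoc,
          cj_mul_T ρ (x ^ b)])
    have hdist : ∀ i j, i < r → j < r → c i * c j ≠ 0 → i = j := by
      intro i j hi hj hne
      have h1 : c i = c j := by
        rw [← horth i j hne, (adj_comm ρ hA (hcS i).1 (hcS j).1).eq]
        exact horth j i (by rwa [(adj_comm ρ hA (hcS j).1 (hcS i).1).eq])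
      by_contra hij
      clear hne
      wlog hlt : i < j generalizing i j
      · exact this j i hj hi h1.symm (Ne.symm hij) (by omega)
      have hd : cj ρ (x ^ (j - i)) e = e := by
        apply (cj ρ (x ^ i)).injective
        rw [← hcc, show i + (j - i) = j by omega]
        exact h1.symm
      have hd' : ∀ m, cj ρ (x ^ ((j - i) * m)) e = e := by
        intro m
        induction m with
        | zero =>
          rw [Nat.mul_zero, pow_zero]
          exact ext_T ρ (g := 1) (by rw [cj_mul_T, T_one, one_mul, mul_one])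
        | succ m ih => rw [Nat.mul_succ, hcc, hd, ih]
      have hcop : (j - i).Coprime r :=
        (hr.coprime_iff_not_dvd.mpr fun hdvd => by
          have := Nat.le_of_dvd (by omega) hdvd
          omega).symm
      obtain ⟨m, hm⟩ := exists_pow_eq_self_of_coprime (x := x) (n := j - i)
        (hcop.coprime_dvd_right (orderOf_dvd_of_pow_eq_one hxr))
      refine hmove ?_
      rw [← hm, ← pow_mul]
      exact hd' m
    -- too many orthogonal idempotents
    have hnz : ∀ i : Fin r, ∃ u, c i u ≠ 0 := fun i => by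
      by_contra! h
      exact (hcS i).2.2.1 (LinearMap.ext h)
    choose u hu using hnz
    have hli : LinearIndependent (ZMod p) (fun i : Fin r => c i (u i)) := by
      rw [Fintype.linearIndependent_iff]
      intro g hg i
      have h := congrArg (c i) hg
      rw [map_zero, map_sum, Finset.sum_eq_single i] at h
      · rw [map_smul, ← Module.End.mul_apply, (hcS i).2.1] at h
        exact (smul_eq_zero.mp h).resolve_right (hu i)
      · intro j _ hji
        rw [map_smul, ← Module.End.mul_apply]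
        have : c i * c j = 0 := by
          by_contra hne
          exact hji (Fin.ext (hdist i j i.2 j.2 hne)).symm
        rw [this, LinearMap.zero_apply, smul_zero]
      · simp
    have := hli.fintype_card_le_finrank
    rw [Fintype.card_fin] at this
    omega
  rcases hxinv (LinearMap.range e) (by
      rintro _ ⟨w, rfl⟩
      exact ⟨ρ x w, by rw [← cj_apply ρ x e w, hfix]⟩) with h | h
  · exact he0 (LinearMap.range_eq_bot.1 h)
  · refine he1 (LinearMap.ext fun w => ?_)
    obtain ⟨u, rfl⟩ : w ∈ LinearMap.range e := h ▸ Submodule.mem_top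
    rw [← Module.End.mul_apply, hee]
    rfl

end CfsgLib.Recog.Huppert
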