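import Cfsg.Agent.Lib.Recog.Huppert.Field

/-!
# Consequences of the field generated by an abelian normal subgroup

* `index_centralizer_dvd`, `mem_centralizer_of_coprime`: the Galois action
* `mem_adj_of_full`, `centralizer_comm_of_full`, `card_dvd_of_full`: the irreducible case
* `semilinear_of_full`: the irreducible case is semilinear
-/

set_option autoImplicit false
set_option linter.all false
set_option maxHeartbeats 400000

namespace CfsgLib.Recog.Huppert

open Subgroup

variable {p : ℕ} [hp : Fact p.Prime] {V : Type*} [AddCommGroup V] [Module (ZMod p) V]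
  [Finite V] [Nontrivial V] {G : Type*} [Group G] (ρ : G →* (V ≃ₗ[ZMod p] V)) {A : Subgroup G}

instance finite_adj : Finite (adj ρ A) := by
  have : Finite (Module.End (ZMod p) V) := Finite.of_injective _ DFunLike.coe_injective
  infer_instance

theorem one_ne_zero_adj : (1 : adj ρ A) ≠ 0 := fun h => by
  obtain ⟨v, hv⟩ := exists_ne (0 : V)
  have := LinearMap.congr_fun (congrArg Subtype.val h) v
  exact hv (by simpa using this)

/-- The field generated by an abelian subgroup. -/
theorem isField_adj (hA : A ≤ centralizer (A : Set G)) (h : IsFld ρ A) : IsField (adj ρ A) := by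
  classical
  refine ⟨⟨0, 1, (one_ne_zero_adj ρ).symm⟩, fun j k => Subtype.ext (adj_comm ρ hA j.2 k.2).eq, ?_⟩
  intro k hk
  have hinj : Function.Injective fun j : adj ρ A => k * j := by
    intro i j e
    by_contra hne
    have h1 : k * (i - j) = 0 := by rw [mul_sub]; exact sub_eq_zero.mpr e
    obtain ⟨v, hv⟩ : ∃ v, ((i - j : adj ρ A) : Module.End (ZMod p) V) v ≠ 0 := by
      by_contra! h2
      exact hne (sub_eq_zero.mp (Subtype.ext (LinearMap.ext h2)))
    exact hk (Subtype.ext (h _ k.2 _ hv (LinearMap.congr_fun (congrArg Subtype.val h1) v)))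
  exact ((Finite.injective_iff_surjective).mp hinj) 1

/-- The action on the algebra. -/
noncomputable def gal (hAn : A.Normal) : G →* (adj ρ A ≃ₐ[ZMod p] adj ρ A) :=
  MonoidHom.mk'
    (fun g => AlgEquiv.ofBijective
      (((cj ρ g).toAlgHom.comp (adj ρ A).val).codRestrict (adj ρ A) fun k => cj_mem ρ hAn g k.2)
      ((Finite.injective_iff_bijective).1 fun j k e =>
        Subtype.ext ((cj ρ g).injective (congrArg Subtype.val e))))
    fun g h => AlgEquiv.ext fun k => Subtype.ext (ext_T ρ (g := g * h) (by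
      show cj ρ (g * h) (k : Module.End (ZMod p) V) * T ρ (g * h) = cj ρ g (cj ρ h k) * T ρ (g * h)
      rw [cj_mul_T, T_mul, ← mul_assoc (cj ρ g _), cj_mul_T, mul_assoc, mul_assoc, cj_mul_T]))

theorem coe_gal (hAn : A.Normal) (g : G) (k : adj ρ A) :
    ((gal ρ hAn g k : adj ρ A) : Module.End (ZMod p) V) = cj ρ g k := rfl

theorem gal_ker (hρ : Function.Injective ρ) (hAn : A.Normal) :
    (gal ρ hAn).ker = centralizer (A : Set G) := by
  ext g
  constructor
  · intro hg
    refine mem_centralizer_iff.mpr fun a ha => ?_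
    have h := congrArg Subtype.val (AlgEquiv.congr_fun (MonoidHom.mem_ker.mp hg) ⟨T ρ a, T_mem ρ ha⟩)
    rw [coe_gal] at h
    change cj ρ g (T ρ a) = T ρ a at h
    rw [cj_T] at h
    exact (mul_inv_eq_iff_eq_mul.mp (T_injective ρ hρ h)).symm
  · intro hg
    refine MonoidHom.mem_ker.mpr (AlgEquiv.ext fun k => Subtype.ext ?_)
    rw [coe_gal]
    exact ext_T ρ (g := g) (by rw [cj_mul_T]; exact (commute_adj ρ hg k.2).eq)

theorem card_adj : Nat.card (adj ρ A) = p ^ Module.finrank (ZMod p) (adj ρ A) := by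
  rw [Module.natCard_eq_pow_finrank (K := ZMod p), Nat.card_zmod]

theorem card_gal_dvd (hA : A ≤ centralizer (A : Set G)) (h : IsFld ρ A) (hAn : A.Normal) :
    Nat.card (gal ρ hAn).range ∣ Module.finrank (ZMod p) (adj ρ A) := by
  letI : Field (adj ρ A) := (isField_adj ρ hA h).toField
  have : IsGalois (ZMod p) (adj ρ A) := inferInstance
  rw [← IsGalois.card_aut_eq_finrank]
  exact Subgroup.card_subgroup_dvd_card _

theorem index_centralizer_dvd (hρ : Function.Injective ρ) (hA : A ≤ centralizer (A : Set G))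
    (h : IsFld ρ A) (hAn : A.Normal) :
    (centralizer (A : Set G)).index ∣ Module.finrank (ZMod p) (adj ρ A) := by
  rw [← gal_ker ρ hρ hAn, Subgroup.index_ker]
  exact card_gal_dvd ρ hA h hAn

theorem mem_centralizer_of_coprime (hρ : Function.Injective ρ) (hA : A ≤ centralizer (A : Set G))
    (h : IsFld ρ A) (hAn : A.Normal) {g : G}
    (hg : (orderOf g).Coprime (Module.finrank (ZMod p) (adj ρ A))) :
    g ∈ centralizer (A : Set G) := by
  rw [← gal_ker ρ hρ hAn, MonoidHom.mem_ker]
  let y : (gal ρ hAn).range := ⟨gal ρ hAn g, g, rfl⟩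
  have h1 : orderOf y ∣ orderOf g := by
    rw [← Subgroup.orderOf_coe]
    exact orderOf_map_dvd _ g
  have h2 : orderOf y ∣ Module.finrank (ZMod p) (adj ρ A) :=
    (orderOf_dvd_natCard y).trans (card_gal_dvd ρ hA h hAn)
  exact congrArg Subtype.val (orderOf_eq_one_iff.mp (Nat.eq_one_of_dvd_coprimes hg h1 h2))

/-- A group inside the units of the field has order dividing their number. -/
theorem card_dvd_units (hρ : Function.Injective ρ) (hA : A ≤ centralizer (A : Set G))
    (h : IsFld ρ A) (H : Subgroup G) (hH : ∀ g ∈ H, T ρ g ∈ adj ρ A) :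
    Nat.card H ∣ p ^ Module.finrank (ZMod p) (adj ρ A) - 1 := by
  letI : Field (adj ρ A) := (isField_adj ρ hA h).toField
  let f : H →* adj ρ A :=
    { toFun := fun g => ⟨T ρ g, hH g g.2⟩
      map_one' := Subtype.ext (T_one ρ)
      map_mul' := fun g g' => Subtype.ext (T_mul ρ g g') }
  have hf : Function.Injective f.toHomUnits := fun g g' e =>
    Subtype.ext (T_injective ρ hρ (congrArg Subtype.val (congrArg Units.val e)))
  rw [← card_adj, ← Nat.card_units]
  exact Subgroup.card_dvd_of_injective _ hf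

theorem finrank_adj_of_full (hf : Full ρ A) :
    Module.finrank (ZMod p) (adj ρ A) = Module.finrank (ZMod p) V := by
  have h := hf
  unfold Full at h
  rw [card_adj, Module.natCard_eq_pow_finrank (K := ZMod p) (V := V), Nat.card_zmod] at h
  exact Nat.pow_right_injective hp.out.two_le h

theorem full_of_finrank
    (h : Module.finrank (ZMod p) (adj ρ A) = Module.finrank (ZMod p) V) : Full ρ A := by
  unfold Full
  rw [card_adj, h, Module.natCard_eq_pow_finrank (K := ZMod p) (V := V), Nat.card_zmod]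

theorem ev_bijective (h : IsFld ρ A) (hf : Full ρ A) {v : V} (hv : v ≠ 0) :
    Function.Bijective (ev ρ A v) :=
  (Nat.bijective_iff_injective_and_card _).mpr ⟨ev_injective ρ h hv, hf⟩

theorem mem_adj_of_full (hA : A ≤ centralizer (A : Set G)) (h : IsFld ρ A) (hf : Full ρ A) {g : G}
    (hg : g ∈ centralizer (A : Set G)) : T ρ g ∈ adj ρ A := by
  obtain ⟨v, hv⟩ := exists_ne (0 : V)
  obtain ⟨c, hc⟩ := (ev_bijective ρ h hf hv).2 (ρ g v)
  have : T ρ g = c := by
    refine LinearMap.ext fun w => ?_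
    obtain ⟨k, rfl⟩ := (ev_bijective ρ h hf hv).2 w
    show T ρ g ((k : Module.End (ZMod p) V) v) = (c : Module.End (ZMod p) V) ((k : Module.End (ZMod p) V) v)
    rw [← Module.End.mul_apply, (commute_adj ρ hg k.2).eq, ← Module.End.mul_apply,
      (adj_comm ρ hA c.2 k.2).eq, Module.End.mul_apply, Module.End.mul_apply]
    exact congrArg _ hc.symm
  rw [this]
  exact c.2

theorem centralizer_comm_of_full (hρ : Function.Injective ρ) (hA : A ≤ centralizer (A : Set G))
    (h : IsFld ρ A) (hf : Full ρ A) {g g' : G} (hg : g ∈ centralizer (A : Set G))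
    (hg' : g' ∈ centralizer (A : Set G)) : g * g' = g' * g :=
  T_injective ρ hρ (by
    rw [T_mul, T_mul]
    exact (adj_comm ρ hA (mem_adj_of_full ρ hA h hf hg) (mem_adj_of_full ρ hA h hf hg')).eq)

theorem card_dvd_of_full [Finite G] (hρ : Function.Injective ρ)
    (hA : A ≤ centralizer (A : Set G)) (h : IsFld ρ A) (hAn : A.Normal) (hf : Full ρ A) :
    Nat.card G ∣ (p ^ Module.finrank (ZMod p) V - 1) * Module.finrank (ZMod p) V := by
  rw [← (centralizer (A : Set G)).card_mul_index, ← finrank_adj_of_full ρ hf]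
  exact mul_dvd_mul (card_dvd_units ρ hρ hA h _ fun g hg => mem_adj_of_full ρ hA h hf hg)
    (index_centralizer_dvd ρ hρ hA h hAn)

/-- A group with an irreducible abelian normal subgroup is semilinear. -/
theorem semilinear_of_full (hA : A ≤ centralizer (A : Set G)) (h : IsFld ρ A) (hAn : A.Normal)
    (hf : Full ρ A) :
    ∃ (F : Type) (_ : Field F) (_ : Fintype F) (e : V ≃+ F),
      ∀ g : G, ∃ (a : F) (σ : F ≃+* F), ∀ v : V, e (ρ g v) = a * σ (e v) := by
  letI : Field (adj ρ A) := (isField_adj ρ hA h).toField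
  obtain ⟨v₀, hv₀⟩ := exists_ne (0 : V)
  let φ : adj ρ A ≃ₗ[ZMod p] V := LinearEquiv.ofBijective _ (ev_bijective ρ h hf hv₀)
  have key : ∀ (g : G) (v : V),
      φ.symm (ρ g v) = φ.symm (ρ g v₀) * gal ρ hAn g (φ.symm v) := by
    intro g v
    apply φ.injective
    rw [φ.apply_symm_apply, mul_comm]
    show _ = ((gal ρ hAn g (φ.symm v) : adj ρ A) : Module.End (ZMod p) V)
      ((φ.symm (ρ g v₀) : Module.End (ZMod p) V) v₀)
    rw [show ((φ.symm (ρ g v₀) : Module.End (ZMod p) V) v₀) = ρ g v₀ from φ.apply_symm_apply _,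
      coe_gal, cj_apply]
    exact (congrArg _ (φ.apply_symm_apply v)).symm
  haveI : Small.{0} (adj ρ A) := Countable.toSmall _
  refine ⟨Shrink.{0} (adj ρ A), inferInstance, Fintype.ofFinite _,
    φ.symm.toAddEquiv.trans (Shrink.ringEquiv _).symm.toAddEquiv,
    fun g => ⟨(Shrink.ringEquiv _).symm (φ.symm (ρ g v₀)),
      (Shrink.ringEquiv _).trans ((gal ρ hAn g).toRingEquiv.trans (Shrink.ringEquiv _).symm),
      fun v => ?_⟩⟩
  show (Shrink.ringEquiv _).symm (φ.symm (ρ g v)) = _ *
    (Shrink.ringEquiv _).symm (gal ρ hAn g ((Shrink.ringEquiv _)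
      ((Shrink.ringEquiv _).symm (φ.symm v))))
  rw [RingEquiv.apply_symm_apply, key, map_mul]

end CfsgLib.Recog.Huppert
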